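import Cfsg.Agent.TISpecial.Action
import Cfsg.Agent.PGroups.SpecialCoprime

/-!
# The image of the generated group, and the structure of `Q`
-/

set_option autoImplicit false
set_option linter.unusedSectionVars false

open scoped IsMulCommutative

namespace Cfsg.Lib.TISpecial

open Matrix Cfsg Cfsg.Lib.RootSub
open scoped commutatorElement

variable {G : Type*} [Group G] [Finite G] {V Q U Q' : Subgroup G} [IsMulCommutative ↥V]
  (s : Setting V Q) (s' : Setting U Q') (hU : IsComp V Q U) (hU' : IsComp U Q' V)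
include s s' hU hU'

theorem Setting.le_normalizer_sup :
    pp V Q ⊔ pp U Q' ≤ Subgroup.normalizer ((V ⊔ U : Subgroup G) : Set G) :=
  sup_le (fun _ hp => s.pp_normalizes_sup hU hp)
    fun x hx => by rw [sup_comm V U]; exact s'.pp_normalizes_sup hU' hx

theorem Setting.exists_equiv
    (hN : ((Subgroup.centralizer ((V ⊔ U : Subgroup G) : Set G)).subgroupOf
      (pp V Q ⊔ pp U Q')).Normal) :
    ∃ (F : Type) (_ : Field F) (_ : Fintype F), Fintype.card F = Nat.card ↥V ∧
      Nonempty ((↥(pp V Q ⊔ pp U Q') ⧸ (Subgroup.centralizer ((V ⊔ U : Subgroup G) : Set G)).subgroupOf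
        (pp V Q ⊔ pp U Q')) ≃* Matrix.SpecialLinearGroup (Fin 2) F) := by
  classical
  obtain ⟨F, hF, hFt, hcard, Φ, hP1, hP2, hX1, hX2⟩ := s.exists_coords s' hU hU'
  refine ⟨F, hF, hFt, hcard, ?_⟩
  have hle := s.le_normalizer_sup s' hU hU'
  let f : ↥(pp V Q ⊔ pp U Q') → (Fin 2 → F) → (Fin 2 → F) := fun h w =>
    Φ.symm ⟨(h : G) * (Φ w : G) * (h : G)⁻¹,
      (Subgroup.mem_normalizer_iff.1 (hle h.2) _).1 (Φ w).2⟩
  have hf : ∀ h w, (Φ (f h w) : G) = (h : G) * (Φ w : G) * (h : G)⁻¹ := fun h w => by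
    simp only [f, Equiv.apply_symm_apply]
  have hfmul : ∀ a b w, f (a * b) w = f a (f b w) := fun a b w => Φ.injective (Subtype.ext (by
    rw [hf, hf, hf, Subgroup.coe_mul]; group))
  have hfone : ∀ w, f 1 w = w := fun w => Φ.injective (Subtype.ext (by rw [hf]; simp))
  let ρ : ↥(pp V Q ⊔ pp U Q') →* Equiv.Perm (Fin 2 → F) :=
    { toFun := fun h => ⟨f h, f h⁻¹, fun w => by rw [← hfmul, inv_mul_cancel, hfone],
        fun w => by rw [← hfmul, mul_inv_cancel, hfone]⟩
      map_one' := Equiv.ext hfone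
      map_mul' := fun a b => Equiv.ext (hfmul a b) }
  let μ : SpecialLinearGroup (Fin 2) F →* Equiv.Perm (Fin 2 → F) :=
    { toFun := fun m => ⟨fun w => m.1 *ᵥ w, fun w => (m⁻¹).1 *ᵥ w,
        fun w => (mulVec_mulVec w (m⁻¹).1 m.1).trans
          ((congrArg (fun g : SpecialLinearGroup (Fin 2) F => g.1 *ᵥ w) (inv_mul_cancel m)).trans
            (one_mulVec w)),
        fun w => (mulVec_mulVec w m.1 (m⁻¹).1).trans
          ((congrArg (fun g : SpecialLinearGroup (Fin 2) F => g.1 *ᵥ w) (mul_inv_cancel m)).trans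
            (one_mulVec w))⟩
      map_one' := Equiv.ext fun w => one_mulVec w
      map_mul' := fun a b => Equiv.ext fun w => (mulVec_mulVec w a.1 b.1).symm }
  have hμinj : Function.Injective μ := fun a b e => by
    refine Subtype.ext (Matrix.ext fun i k => ?_)
    have h1 := congrFun (congrArg (fun σ : Equiv.Perm (Fin 2 → F) => σ (Pi.single k 1)) e) i
    have h2 : (a.1 *ᵥ Pi.single k 1) i = (b.1 *ᵥ Pi.single k 1) i := h1
    simpa using h2
  have hmatch : ∀ (h : ↥(pp V Q ⊔ pp U Q')) (m : SpecialLinearGroup (Fin 2) F),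
      (∀ w, (h : G) * (Φ w : G) * (h : G)⁻¹ = Φ (m.1 *ᵥ w)) → ρ h = μ m := fun h m e =>
    Equiv.ext fun w => Φ.injective (Subtype.ext ((hf h w).trans (e w)))
  have hker : ρ.ker = (Subgroup.centralizer ((V ⊔ U : Subgroup G) : Set G)).subgroupOf (pp V Q ⊔ pp U Q') := by
    ext h
    rw [MonoidHom.mem_ker, Subgroup.mem_subgroupOf, Subgroup.mem_centralizer_iff]
    constructor
    · intro e y hy
      obtain ⟨w, hw⟩ := Φ.surjective ⟨y, hy⟩
      have h1 : f h w = w := congrArg (fun σ : Equiv.Perm (Fin 2 → F) => σ w) e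
      have h2 := hf h w
      rw [h1, hw] at h2
      exact (mul_inv_eq_iff_eq_mul.1 h2.symm).symm
    · intro e
      refine Equiv.ext fun w => Φ.injective (Subtype.ext ((hf h w).trans ?_))
      show (h : G) * (Φ w : G) * (h : G)⁻¹ = Φ w
      rw [← e _ (Φ w).2, mul_inv_cancel_right]
  have hrange : ρ.range = μ.range := by
    refine le_antisymm ?_ ?_
    · rw [MonoidHom.range_eq_map, show (⊤ : Subgroup ↥(pp V Q ⊔ pp U Q')) = (pp V Q).subgroupOf _ ⊔ (pp U Q').subgroupOf _
        by rw [← Subgroup.subgroupOf_sup le_sup_left le_sup_right, Subgroup.subgroupOf_self],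
        Subgroup.map_sup]
      refine sup_le ?_ ?_
      · rintro _ ⟨h, hh, rfl⟩
        obtain ⟨t, ht⟩ := hP1 h hh
        exact ⟨_, (hmatch h _ ht).symm⟩
      · rintro _ ⟨h, hh, rfl⟩
        obtain ⟨t, ht⟩ := hX1 h hh
        exact ⟨_, (hmatch h _ ht).symm⟩
    · rw [MonoidHom.range_eq_map μ, ← lower_sup_upper (k := F), Subgroup.map_sup]
      refine sup_le ?_ ?_
      · rintro _ ⟨m, hm, rfl⟩
        obtain ⟨t, rfl⟩ := mem_lower_iff.1 hm
        obtain ⟨x, hx, he⟩ := hX2 t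
        exact ⟨⟨x, le_sup_right (a := pp V Q) hx⟩, hmatch _ _ he⟩
      · rintro _ ⟨m, hm, rfl⟩
        obtain ⟨t, rfl⟩ := mem_upper_iff.1 hm
        obtain ⟨x, hx, he⟩ := hP2 t
        exact ⟨⟨x, le_sup_left (b := pp U Q') hx⟩, hmatch _ _ he⟩
  exact ⟨(QuotientGroup.quotientMulEquivOfEq hker.symm).trans
    ((QuotientGroup.quotientKerEquivRange ρ).trans
      ((MulEquiv.subgroupCongr hrange).trans (MonoidHom.ofInjective hμinj).symm))⟩

theorem Setting.structure_Q :
    (frattini ↥Q).map Q.subtype = V ∧ (Subgroup.center ↥Q).map Q.subtype = V ∧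
      (commutator ↥Q).map Q.subtype = V := by
  have hP : pp V Q = Q := s.pp_eq s' hU hU'
  have hmem : ∀ {q}, q ∈ Q → q ∈ pp V Q := fun {q} hq => by rw [hP]; exact hq
  have hPQ : ∀ {q}, q ∈ pp V Q → q ∈ Q := fun hq => hq.1
  have : Fact (Nat.Prime 2) := ⟨Nat.prime_two⟩
  have hcom : (commutator ↥Q).map Q.subtype = V := by
    refine le_antisymm ?_ ?_
    · rw [Subgroup.map_le_iff_le_comap, commutator_def, Subgroup.commutator_le]
      rintro a - b -
      exact (s.commutator_mem (hmem a.2) (hmem b.2)).1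
    · intro v hv
      obtain ⟨u, hu, hu1⟩ := s.comp_ne_one hU
      obtain ⟨p, hp, e⟩ := s.exists_cm hU hu hu1 hv
      refine ⟨⁅(⟨p, hPQ hp⟩ : Q), (⟨u, hU.2.1 hu⟩ : Q)⁆, ?_, e⟩
      rw [commutator_def]
      exact Subgroup.commutator_mem_commutator (Subgroup.mem_top _) (Subgroup.mem_top _)
  refine ⟨le_antisymm ?_ ?_, le_antisymm ?_ ?_, hcom⟩
  · have hn : (V.subgroupOf Q).Normal := ⟨fun v hv y => by
      show (y : G) * v * (y : G)⁻¹ ∈ V
      exact s.V_normal (s.Q_le y.2) hv⟩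
    have h1 : frattini ↥Q ≤ V.subgroupOf Q :=
      Cfsg.Lib.PGroups.SpecialCoprime.frattini_le_of_elementary (p := 2) _
        (fun q => by
          rw [Subgroup.mem_subgroupOf, SubgroupClass.coe_pow, pow_two]
          exact (s.commutator_mem (hmem q.2) (hmem q.2)).2)
        (fun c hc => hcom.le (Subgroup.mem_map_of_mem _ hc))
    intro x hx
    obtain ⟨y, hy, rfl⟩ := hx
    exact h1 hy
  · rw [← hcom]
    exact Subgroup.map_mono (Cfsg.Lib.PGroups.commutator_le_frattini s.Q_two)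
  · rintro _ ⟨z, hz, rfl⟩
    refine s.mem_V_of_central (hmem z.2) fun p hp => ?_
    exact (congrArg Subtype.val (Subgroup.mem_center_iff.1 hz ⟨p, hPQ hp⟩)).symm
  · intro v hv
    exact ⟨⟨v, s.le_Q hv⟩, Subgroup.mem_center_iff.2 fun q => Subtype.ext (s.pp_comm (hmem q.2) hv),
      rfl⟩

end Cfsg.Lib.TISpecial
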