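import Cfsg.Agent.TISpecial.Spread
import Cfsg.Agent.RootSub.SL2

/-!
# The group generated by `P` and its conjugate acts on `V U` as `SL₂`
-/

set_option autoImplicit false
set_option linter.unusedSectionVars false

open scoped IsMulCommutative

namespace Cfsg.Lib.TISpecial

open Matrix Cfsg Cfsg.Lib.RootSub

variable {G : Type*} [Group G] [Finite G] {V Q U Q' : Subgroup G} [IsMulCommutative ↥V]
  (s : Setting V Q) (s' : Setting U Q') (hU : IsComp V Q U) (hU' : IsComp U Q' V)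
include s s' hU hU'

/-- The coordinate field and the coordinate map of `V U`. -/
theorem Setting.exists_coords :
    ∃ (F : Type) (_ : Field F) (_ : Fintype F), Fintype.card F = Nat.card ↥V ∧
      ∃ Φ : (Fin 2 → F) ≃ ↥(V ⊔ U),
        (∀ p ∈ pp V Q, ∃ t : F, ∀ w, p * (Φ w : G) * p⁻¹ = Φ ((upEl t).1 *ᵥ w)) ∧
        (∀ t : F, ∃ p ∈ pp V Q, ∀ w, p * (Φ w : G) * p⁻¹ = Φ ((upEl t).1 *ᵥ w)) ∧
        (∀ x ∈ pp U Q', ∃ t : F, ∀ w, x * (Φ w : G) * x⁻¹ = Φ ((loEl t).1 *ᵥ w)) ∧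
        (∀ t : F, ∃ x ∈ pp U Q', ∀ w, x * (Φ w : G) * x⁻¹ = Φ ((loEl t).1 *ᵥ w)) := by
  classical
  obtain ⟨p₀, x₀, hp₀, hx₀, h1, h2⟩ := s.exists_pair s' hU hU'
  have hS := s.spreadSet s' hU hU' hp₀ hx₀ h2
  set S := s.spread s' hU hU' x₀ hx₀ with hSdef
  obtain ⟨⟨v₀, hv₀⟩, hv₀1⟩ := Subgroup.ne_bot_iff_exists_ne_one.1 s.ne_bot
  have hv₀ne : (Additive.ofMul (⟨v₀, hv₀⟩ : ↥V)) ≠ 0 := fun e => hv₀1 (congrArg Additive.toMul e)
  have : Nontrivial (Additive ↥V) := ⟨_, _, hv₀ne⟩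
  have : IsMulCommutative ↥U := ⟨⟨fun a b => Subtype.ext (s'.comm _ a.2 _ b.2)⟩⟩
  have : Nontrivial (AddMonoid.End (Additive ↥V)) := ⟨1, 0, fun e => hv₀ne
    (DFunLike.congr_fun e (Additive.ofMul (⟨v₀, hv₀⟩ : ↥V)))⟩
  obtain ⟨hcomm, hmul⟩ := hS.exists_field
  let K : Subring (AddMonoid.End (Additive ↥V)) :=
    { carrier := S
      mul_mem' := fun {a b} ha hb => hmul a ha b hb
      one_mem' := hS.one
      add_mem' := S.add_mem
      zero_mem' := S.zero_mem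
      neg_mem' := S.neg_mem }
  let _ : CommRing K :=
    { (inferInstance : Ring K) with mul_comm := fun a b => Subtype.ext (hcomm _ a.2 _ b.2) }
  have hinv : ∀ a : K, a ≠ 0 → ∃ b : K, a * b = 1 := fun a ha => by
    obtain ⟨b, hb, e⟩ := hS.inv _ a.2 fun e => ha (Subtype.ext e)
    exact ⟨⟨b, hb⟩, Subtype.ext e⟩
  have : Nontrivial K := ⟨1, 0, fun e => hv₀ne (by
    have := DFunLike.congr_fun (congrArg Subtype.val e : (1 : AddMonoid.End (Additive ↥V)) = 0)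
      (Additive.ofMul (⟨v₀, hv₀⟩ : ↥V))
    exact this)⟩
  let _ : Field K :=
    (IsField.mk ⟨0, 1, zero_ne_one⟩ mul_comm (fun {a} ha => hinv a ha)).toField
  have : CharP K 2 := CharTwo.of_one_ne_zero_of_two_eq_zero one_ne_zero
    (Subtype.ext (by
      show (2 : AddMonoid.End (Additive ↥V)) = 0
      rw [← one_add_one_eq_two]; exact hS.add_self 1))
  have : Fact (Nat.Prime 2) := ⟨Nat.prime_two⟩
  obtain ⟨n, hn⟩ := (s.Q_two.to_le s.le_Q).exists_card_eq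
  have hK : Nat.card K = 2 ^ n := hS.card.trans ((Nat.card_congr Additive.toMul).trans hn)
  let _ : Algebra (ZMod 2) K := ZMod.algebra K 2
  let eF : K ≃ₐ[ZMod 2] GaloisField 2 n := GaloisField.algEquivGaloisField 2 n hK
  let _ : Fintype (GaloisField 2 n) := Fintype.ofFinite _
  let F := GaloisField 2 n
  let j : F →+* AddMonoid.End (Additive ↥V) := K.subtype.comp (eF.symm : F →+* K)
  have hjS : ∀ t, InSpread V Q x₀ (j t) := fun t => (eF.symm t).2
  have hjsurj : ∀ z, InSpread V Q x₀ z → ∃ t, j t = z := fun z hz =>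
    ⟨eF ⟨z, hz⟩, by simp [j]⟩
  refine ⟨F, inferInstance, inferInstance, ?_, ?_⟩
  · rw [← Nat.card_eq_fintype_card, ← Nat.card_congr eF.toEquiv, hK, hn]
  -- coordinates
  let cV : F → ↥V := fun t => act (j t) ⟨v₀, hv₀⟩
  have hcinj : Function.Injective cV := by
    intro a b e
    by_contra hne
    have hab : a - b ≠ 0 := sub_ne_zero.2 hne
    have e0 : (j (a - b)) (Additive.ofMul (⟨v₀, hv₀⟩ : ↥V)) = 0 := by
      rw [map_sub]
      show (j a) _ - (j b) _ = 0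
      rw [sub_eq_zero]
      exact congrArg Additive.ofMul e
    exact hab ((map_eq_zero j).1 (hS.eq_zero_of_apply (eF.symm (a - b)).2 hv₀ne e0))
  have hcsurj : Function.Surjective cV := by
    have hcard : Nat.card F = Nat.card ↥V := by
      rw [← Nat.card_congr eF.toEquiv, hK, hn]
    exact ((Nat.bijective_iff_injective_and_card cV).2 ⟨hcinj, hcard⟩).2
  have hcadd : ∀ a b, cV (a + b) = cV a * cV b := fun a b => by
    simp only [cV, map_add, act_add]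
  have hcmul : ∀ a b, cV (a * b) = act (j a) (cV b) := fun a b => by
    simp only [cV, map_mul, act_mul]
  have hxU : ∀ v : ↥V, cm x₀ (v : G) ∈ U := fun v =>
    (s'.commutator_mem hx₀ (s'.comp_le_pp hU' v.2)).1
  let φ : (Fin 2 → F) → ↥(V ⊔ U) := fun w => ⟨(cV (w 0) : G) * cm x₀ (cV (w 1) : G),
    mul_mem (Subgroup.mem_sup_left (cV (w 0)).2) (Subgroup.mem_sup_right (hxU _))⟩
  have hφ : Function.Bijective φ := by
    constructor
    · intro a b e
      obtain ⟨e1, e2⟩ := s.unique_decomp s' hU hU' (cV (a 0)).2 (cV (b 0)).2 (hxU (cV (a 1)))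
        (hxU (cV (b 1))) (congrArg Subtype.val e)
      have e3 : cV (a 1) = cV (b 1) := Subtype.ext (by
        rw [← h2 _ (cV (a 1)).2, e2, h2 _ (cV (b 1)).2])
      funext i
      fin_cases i
      · exact hcinj (Subtype.ext e1)
      · exact hcinj e3
    · rintro ⟨w, hw⟩
      obtain ⟨v, hv, u, hu, rfl⟩ := (s.mem_sup_comp hU).1 hw
      obtain ⟨a, ha⟩ := hcsurj ⟨v, hv⟩
      obtain ⟨b, hb⟩ := hcsurj ⟨cm p₀ u, (s.commutator_mem hp₀ (s.comp_le_pp hU hu)).1⟩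
      refine ⟨![a, b], Subtype.ext ?_⟩
      show (cV a : G) * cm x₀ (cV b : G) = v * u
      rw [ha, hb]
      show v * cm x₀ (cm p₀ u) = v * u
      rw [h1 u hu]
  have hup : ∀ p ∈ pp V Q, ∀ t : F, (∀ v : ↥V, (act (j t) v : G) = cm p (cm x₀ (v : G))) →
      ∀ w, p * (φ w : G) * p⁻¹ = φ ((upEl t).1 *ᵥ w) := by
    intro p hp t ht w
    have e0 : ((upEl t).1 *ᵥ w) 0 = w 0 + t * w 1 := by
      simp [upEl_coe, Matrix.mulVec, dotProduct, Fin.sum_univ_two]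
    have e1 : ((upEl t).1 *ᵥ w) 1 = w 1 := by
      simp [upEl_coe, Matrix.mulVec, dotProduct, Fin.sum_univ_two]
    show p * ((cV (w 0) : G) * cm x₀ (cV (w 1) : G)) * p⁻¹ =
      (cV (((upEl t).1 *ᵥ w) 0) : G) * cm x₀ (cV (((upEl t).1 *ᵥ w) 1) : G)
    rw [e0, e1, hcadd, hcmul, Subgroup.coe_mul, ht]
    calc p * ((cV (w 0) : G) * cm x₀ (cV (w 1) : G)) * p⁻¹
        = (p * (cV (w 0) : G) * p⁻¹) * (p * cm x₀ (cV (w 1) : G) * p⁻¹) := by group
      _ = _ := by rw [s.conj_eq hp (cV (w 0)).2, ← cm_mul p, mul_assoc]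
  have hlo : ∀ x ∈ pp U Q', ∀ t : F,
      (∀ v : ↥V, cm x₀ (act (j t) v : G) = cm x (v : G)) →
      ∀ w, x * (φ w : G) * x⁻¹ = φ ((loEl t).1 *ᵥ w) := by
    intro x hx t ht w
    have e0 : ((loEl t).1 *ᵥ w) 0 = w 0 := by
      simp [loEl_coe, Matrix.mulVec, dotProduct, Fin.sum_univ_two]
    have e1 : ((loEl t).1 *ᵥ w) 1 = t * w 0 + w 1 := by
      simp [loEl_coe, Matrix.mulVec, dotProduct, Fin.sum_univ_two]
    show x * ((cV (w 0) : G) * cm x₀ (cV (w 1) : G)) * x⁻¹ =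
      (cV (((loEl t).1 *ᵥ w) 0) : G) * cm x₀ (cV (((loEl t).1 *ᵥ w) 1) : G)
    rw [e0, e1, hcadd, hcmul, Subgroup.coe_mul,
      s.cm_x_map s' hU hU' hx₀ (act (j t) (cV (w 0))).2 (cV (w 1)).2, ht]
    have hxu : cm x (cV (w 0) : G) ∈ U :=
      (s'.commutator_mem hx (s'.comp_le_pp hU' (cV (w 0)).2)).1
    calc x * ((cV (w 0) : G) * cm x₀ (cV (w 1) : G)) * x⁻¹
        = (x * (cV (w 0) : G) * x⁻¹) * (x * cm x₀ (cV (w 1) : G) * x⁻¹) := by group
      _ = cm x (cV (w 0) : G) * (cV (w 0) : G) * cm x₀ (cV (w 1) : G) := by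
          rw [s'.conj_eq hx (hxU _), ← cm_mul x]
      _ = _ := by rw [s.pp_comm (s.comp_le_pp hU hxu) (cV (w 0)).2, mul_assoc]
  refine ⟨Equiv.ofBijective φ hφ, ?_, ?_, ?_, ?_⟩ <;> simp only [Equiv.ofBijective_apply]
  · intro p hp
    obtain ⟨z, hz⟩ := s.exists_inSpread s' hU hU' hx₀ hp
    obtain ⟨t, rfl⟩ := hjsurj z ⟨p, hp, hz⟩
    exact ⟨t, hup p hp t hz⟩
  · intro t
    obtain ⟨p, hp, ht⟩ := hjS t
    exact ⟨p, hp, hup p hp t ht⟩
  · intro x hx
    by_cases hxE : x ∈ ee U Q' V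
    · refine ⟨0, hlo x hx 0 fun v => ?_⟩
      have e : cm x (v : G) = 1 := cm_eq_one.2 ((ee_def.1 hxE).2 v v.2).symm
      rw [map_zero, act_zero_apply, e]
      simp [cm]
    · obtain ⟨q, hq, -, hq1, hq2⟩ := s'.partner s hU' hU hx hxE
      obtain ⟨z, hz⟩ := s.exists_inSpread s' hU hU' hx₀ hq
      obtain ⟨r, rfl⟩ := hjsurj z ⟨q, hq, hz⟩
      have hr : r ≠ 0 := by
        rintro rfl
        refine hv₀1 (Subtype.ext ?_)
        have hxv := (s'.commutator_mem hx (s'.comp_le_pp hU' hv₀)).1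
        have hcm : cm x₀ (cm p₀ (cm x v₀)) = cm x v₀ := h1 _ hxv
        have := hz ⟨cm p₀ (cm x v₀), (s.commutator_mem hp₀ (s.comp_le_pp hU hxv)).1⟩
        rw [map_zero, act_zero_apply] at this
        show v₀ = 1
        rw [← hq1 v₀ hv₀, ← hcm]
        exact this.symm
      refine ⟨r⁻¹, hlo x hx r⁻¹ fun v => ?_⟩
      have e : act (j r) (act (j r⁻¹) v) = v := by
        rw [← act_mul, ← map_mul, mul_inv_cancel₀ hr, map_one, act_one_apply]
      conv_rhs => rw [← e, hz, hq2 _ (hxU _)]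
  · intro t
    by_cases ht : t = 0
    · subst ht
      refine ⟨1, one_mem _, hlo 1 (one_mem _) 0 fun v => ?_⟩
      rw [map_zero, act_zero_apply]
      simp [cm]
    obtain ⟨p, hp, hz⟩ := hjS t⁻¹
    have hpE : p ∉ ee V Q U := by
      intro hE
      have h0 : j t⁻¹ = 0 := act_ext fun v => Subtype.ext (by
        rw [hz, cm_eq_one.2 ((ee_def.1 hE).2 _ (hxU v)).symm, act_zero_apply]; rfl)
      exact inv_ne_zero ht ((map_eq_zero j).1 h0)
    obtain ⟨x, hx, -, hx1, hx2⟩ := s.partner s' hU hU' hp hpE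
    refine ⟨x, hx, hlo x hx t fun v => ?_⟩
    have e : act (j t⁻¹) (act (j t) v) = v := by
      rw [← act_mul, ← map_mul, inv_mul_cancel₀ ht, map_one, act_one_apply]
    conv_rhs => rw [← e, hz, hx1 _ (hxU _)]

end Cfsg.Lib.TISpecial
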