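import Cfsg.Agent.TISpecial.Setting

/-!
# The partition of `V U` into conjugates of `V`
-/

set_option autoImplicit false
set_option linter.unusedSectionVars false

namespace Cfsg.Lib.TISpecial

variable {G : Type*} [Group G] [Finite G] {V Q U : Subgroup G}

theorem ee_def {p : G} : p ∈ ee V Q U ↔ p ∈ pp V Q ∧ ∀ u ∈ U, u * p = p * u := by
  simp [ee, Subgroup.mem_inf, Subgroup.mem_centralizer_iff, and_assoc]

variable (s : Setting V Q) (hU : IsComp V Q U)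
include s hU

theorem Setting.comp_inf {u : G} (hu : u ∈ U) (hv : u ∈ V) : u = 1 := by
  by_contra h
  exact hU.2.2 (s.eq_of_mem hU.1 s.self_conj hu hv h)

theorem Setting.comp_ne_one : ∃ u ∈ U, u ≠ 1 := by
  obtain ⟨x, rfl⟩ := hU.1
  obtain ⟨v, hv, hv1⟩ := (Subgroup.ne_bot_iff_exists_ne_one.1 s.ne_bot) |>
    fun ⟨⟨v, hv⟩, h⟩ => (⟨v, hv, fun e => h (Subtype.ext e)⟩ : ∃ v ∈ V, v ≠ 1)
  exact ⟨_, conj_mem_cj hv, fun e => hv1 (by simpa [mul_inv_eq_one] using e)⟩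

theorem Setting.comp_cj {p : G} (hp : p ∈ Subgroup.normalizer (V : Set G)) :
    IsComp V Q (cj p U) := by
  obtain ⟨x, hx⟩ := hU.1
  refine ⟨⟨p * x, by rw [hx, cj_mul]⟩, fun y hy => ?_, fun e => hU.2.2 ?_⟩
  · have := s.Q_norm p hp _ (hU.2.1 (mem_cj.1 hy))
    simpa [mul_assoc] using this
  · rw [← cj_one U, ← inv_mul_cancel p, cj_mul, e]
    exact mem_normalizer_iff_cj.1 (inv_mem hp)

theorem Setting.mem_ee_of_one {p u : G} (hp : p ∈ pp V Q) (hu : u ∈ U) (hu1 : u ≠ 1)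
    (h : p * u = u * p) : p ∈ ee V Q U := by
  refine ee_def.2 ⟨hp, fun u' hu' => ?_⟩
  have e : cj p U = U := by
    refine s.eq_of_mem (s.comp_cj hU (s.le_normalizer_pp hp)).1 hU.1 (mem_cj.2 ?_) hu hu1
    rw [mul_assoc, ← h, ← mul_assoc, inv_mul_cancel, one_mul]; exact hu
  have h1 : cm p u' ∈ U := U.mul_mem (e ▸ conj_mem_cj hu') (U.inv_mem hu')
  have h2 := (s.commutator_mem hp (s.comp_le_pp hU hu')).1
  exact (cm_eq_one.1 (s.comp_inf hU h1 h2)).symm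

theorem Setting.cm_ne_one {p u : G} (hp : p ∈ pp V Q) (hpE : p ∉ ee V Q U) (hu : u ∈ U)
    (hu1 : u ≠ 1) : cm p u ≠ 1 :=
  fun e => hpE (s.mem_ee_of_one hU hp hu hu1 (cm_eq_one.1 e))

theorem Setting.card_comp : Nat.card U = Nat.card V := by
  obtain ⟨x, rfl⟩ := hU.1; exact card_cj x V

/-- For `p` outside the centralizer of `U`, commutation with `p` is a bijection `U → V`. -/
theorem Setting.cm_bijective {p : G} (hp : p ∈ pp V Q) (hpE : p ∉ ee V Q U) :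
    Function.Bijective fun u : U =>
      (⟨cm p u, (s.commutator_mem hp (s.comp_le_pp hU u.2)).1⟩ : V) := by
  rw [Nat.bijective_iff_injective_and_card]
  refine ⟨fun u w e => ?_, s.card_comp hU⟩
  have e' : cm p (u : G) = cm p w := congrArg Subtype.val e
  by_contra hne
  have hsq := (s.conj_comm hU.1).2
  have huw : (u : G) * w ≠ 1 := fun h => hne (Subtype.ext (by
    rw [mul_eq_one_iff_eq_inv.1 h, inv_eq_of_mul_eq_one_right (hsq _ w.2)]))
  refine s.cm_ne_one hU hp hpE (U.mul_mem u.2 w.2) huw ?_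
  rw [s.cm_right hp (s.comp_le_pp hU u.2) (s.comp_le_pp hU w.2), e',
    s.sq _ (s.commutator_mem hp (s.comp_le_pp hU w.2)).1]

omit hU in
theorem Setting.good_of_noncomm {U₁ U₂ : Subgroup G} (h₁ : IsComp V Q U₁) (h₂ : IsComp V Q U₂)
    {a b : G} (ha : a ∈ U₁) (hb : b ∈ U₂) (hab : a * b ≠ b * a) :
    ∀ u ∈ U₂, u ≠ 1 → ∀ v ∈ V, ∃ p ∈ pp V Q, cm p u = v := by
  intro u hu hu1 v hv
  have huE : u ∉ ee V Q U₁ := by
    intro hmem
    have ha1 : a ∈ ee V Q U₂ :=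
      s.mem_ee_of_one h₂ (s.comp_le_pp h₁ ha) hu hu1 ((ee_def.1 hmem).2 a ha)
    exact hab ((ee_def.1 ha1).2 b hb).symm
  obtain ⟨⟨u', hu'⟩, e⟩ := (s.cm_bijective h₁ (s.comp_le_pp h₂ hu) huE).2 ⟨v, hv⟩
  exact ⟨u', s.comp_le_pp h₁ hu', by
    rw [s.cm_symm (s.comp_le_pp h₁ hu') (s.comp_le_pp h₂ hu)]
    exact congrArg Subtype.val e⟩

theorem Setting.exists_cm {u : G} (hu : u ∈ U) (hu1 : u ≠ 1) {v : G} (hv : v ∈ V) :
    ∃ p ∈ pp V Q, cm p u = v := by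
  by_contra hbad
  let Bad : Subgroup G → Prop := fun B => IsComp V Q B ∧
    ∃ u ∈ B, u ≠ 1 ∧ ∃ v ∈ V, ¬ ∃ p ∈ pp V Q, cm p u = v
  let S : Set G := (V : Set G) ∪ {a | ∃ B, Bad B ∧ a ∈ B}
  have hSP : S ⊆ (pp V Q : Set G) := by
    rintro a (ha | ⟨B, hB, ha⟩)
    · exact s.V_le_pp ha
    · exact s.comp_le_pp hB.1 ha
  have hScomm : ∀ a ∈ S, ∀ b ∈ S, a * b = b * a := by
    rintro a (ha | ⟨A, hA, ha⟩) b (hb | ⟨B, hB, hb⟩)
    · exact s.comm a ha b hb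
    · exact (s.pp_comm (s.comp_le_pp hB.1 hb) ha).symm
    · exact s.pp_comm (s.comp_le_pp hA.1 ha) hb
    · by_contra hab
      obtain ⟨hBc, u, hu, hu1, v, hv, hno⟩ := hB
      exact hno (s.good_of_noncomm hA.1 hBc ha hb hab u hu hu1 v hv)
  have hVeq : Subgroup.closure S = V := by
    refine s.max_abelian _ (fun v hv => Subgroup.subset_closure (Or.inl hv))
      ((Subgroup.closure_le _).2 fun a ha => s.le_normalizer_pp (hSP ha)) ?_ ?_
    · intro a ha b hb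
      have h1 : ∀ c ∈ Subgroup.closure S, ∀ d ∈ S, c * d = d * c := by
        intro c hc
        induction hc using Subgroup.closure_induction with
        | mem x hx => exact fun d hd => hScomm x hx d hd
        | one => intro d _; simp
        | mul x y _ _ hx hy => intro d hd; exact (Commute.mul_left (hx d hd) (hy d hd))
        | inv x _ hx => intro d hd; exact (Commute.inv_left (hx d hd))
      induction hb using Subgroup.closure_induction with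
      | mem x hx => exact h1 a ha x hx
      | one => simp
      | mul x y _ _ hx hy => exact (Commute.mul_right hx hy)
      | inv x _ hx => exact (Commute.inv_right hx)
    · intro m hm a ha
      induction ha using Subgroup.closure_induction with
      | mem x hx =>
        refine Subgroup.subset_closure ?_
        rcases hx with hx | ⟨B, ⟨hBc, u, hu, hu1, v, hv, hno⟩, hx⟩
        · exact Or.inl (s.V_normal hm hx)
        · refine Or.inr ⟨cj m B, ⟨s.comp_cj hBc hm, m * u * m⁻¹, conj_mem_cj hu,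
            fun e => hu1 (by simpa [mul_inv_eq_one] using e), m * v * m⁻¹, s.V_normal hm hv, ?_⟩,
            conj_mem_cj hx⟩
          rintro ⟨p, hp, e⟩
          refine hno ⟨m⁻¹ * p * m⁻¹⁻¹, s.pp_normal (inv_mem hm) hp, ?_⟩
          calc cm (m⁻¹ * p * m⁻¹⁻¹) u = m⁻¹ * cm p (m * u * m⁻¹) * m⁻¹⁻¹ := by
                rw [conj_cm]; congr 1; group
            _ = v := by rw [e]; group
      | one => simp
      | mul x y _ _ hx hy =>
        rw [show m * (x * y) * m⁻¹ = (m * x * m⁻¹) * (m * y * m⁻¹) by group]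
        exact mul_mem hx hy
      | inv x _ hx =>
        rw [show m * x⁻¹ * m⁻¹ = (m * x * m⁻¹)⁻¹ by group]
        exact inv_mem hx
  have : U ≤ V := fun a ha => hVeq ▸ Subgroup.subset_closure
    (Or.inr ⟨U, ⟨hU, u, hu, hu1, v, hv, hbad⟩, ha⟩)
  exact hU.2.2 (Subgroup.eq_of_le_of_card_ge this (s.card_comp hU).ge)

theorem Setting.mem_sup_comp {w : G} : w ∈ V ⊔ U ↔ ∃ v ∈ V, ∃ u ∈ U, v * u = w := by
  constructor
  · intro hw
    rw [← SetLike.mem_coe, Subgroup.coe_mul_of_right_le_normalizer_left V U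
      ((s.comp_le_pp hU).trans s.le_normalizer_pp)] at hw
    obtain ⟨v, hv, u, hu, e⟩ := hw
    exact ⟨v, hv, u, hu, e⟩
  · rintro ⟨v, hv, u, hu, rfl⟩
    exact mul_mem (Subgroup.mem_sup_left hv) (Subgroup.mem_sup_right hu)

theorem Setting.cj_le_sup {p : G} (hp : p ∈ pp V Q) : cj p U ≤ V ⊔ U := by
  rintro _ ⟨u, hu, rfl⟩
  refine (s.mem_sup_comp hU).2 ⟨cm p u, (s.commutator_mem hp (s.comp_le_pp hU hu)).1, u, hu, ?_⟩
  exact cm_mul p u

theorem Setting.mem_component {w : G} (hw : w ∈ V ⊔ U) (hwV : w ∉ V) :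
    ∃ p ∈ pp V Q, w ∈ cj p U := by
  obtain ⟨v, hv, u, hu, rfl⟩ := (s.mem_sup_comp hU).1 hw
  have hu1 : u ≠ 1 := by rintro rfl; exact hwV (by simpa using hv)
  obtain ⟨p, hp, e⟩ := s.exists_cm hU hu hu1 hv
  exact ⟨p, hp, by rw [← e, cm_mul]; exact conj_mem_cj hu⟩

theorem Setting.conj_in_sup {B : Subgroup G} (hB : ∃ x, B = cj x V) (hle : B ≤ V ⊔ U)
    (hne : B ≠ V) : ∃ p ∈ pp V Q, B = cj p U := by
  obtain ⟨b, hb, hb1⟩ : ∃ b ∈ B, b ≠ 1 := by
    obtain ⟨x, rfl⟩ := hB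
    obtain ⟨⟨v, hv⟩, h⟩ := Subgroup.ne_bot_iff_exists_ne_one.1 s.ne_bot
    exact ⟨_, conj_mem_cj hv, fun e => h (Subtype.ext (by simpa [mul_inv_eq_one] using e))⟩
  obtain ⟨p, hp, hbp⟩ := s.mem_component hU (hle hb)
    (fun hv => hne (s.eq_of_mem hB s.self_conj hb hv hb1))
  exact ⟨p, hp, s.eq_of_mem hB (s.comp_cj hU (s.le_normalizer_pp hp)).1 hb hbp hb1⟩

theorem Setting.existsUnique_conj {w : G} (hw : w ∈ V ⊔ U) (hw1 : w ≠ 1) :
    ∃! B : Subgroup G, (∃ x : G, B = cj x V) ∧ B ≤ V ⊔ U ∧ w ∈ B := by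
  by_cases hwV : w ∈ V
  · exact ⟨V, ⟨s.self_conj, le_sup_left, hwV⟩,
      fun B hB => s.eq_of_mem hB.1 s.self_conj hB.2.2 hwV hw1⟩
  · obtain ⟨p, hp, hwp⟩ := s.mem_component hU hw hwV
    have hc := (s.comp_cj hU (s.le_normalizer_pp hp)).1
    exact ⟨cj p U, ⟨hc, s.cj_le_sup hU hp, hwp⟩,
      fun B hB => s.eq_of_mem hB.1 hc hB.2.2 hwp hw1⟩

theorem Setting.pp_normalizes_sup {p : G} (hp : p ∈ pp V Q) :
    p ∈ Subgroup.normalizer ((V ⊔ U : Subgroup G) : Set G) := by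
  rw [mem_normalizer_iff_cj]
  refine Subgroup.eq_of_le_of_card_ge ?_ (card_cj _ _).ge
  show (V ⊔ U).map _ ≤ _
  rw [Subgroup.map_sup]
  exact sup_le ((mem_normalizer_iff_cj.1 (s.le_normalizer_pp hp)).le.trans le_sup_left)
    (s.cj_le_sup hU hp)

theorem Setting.exists_noncomm :
    ∃ U₂, IsComp V Q U₂ ∧ ∃ a ∈ U, ∃ b ∈ U₂, a * b ≠ b * a := by
  by_contra! hall
  let S : Set G := (V : Set G) ∪ {a | ∃ B, IsComp V Q B ∧ a ∈ B}
  let A : Subgroup G := Subgroup.closure S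
  have hSP : A ≤ pp V Q := (Subgroup.closure_le _).2 <| by
    rintro a (ha | ⟨B, hB, ha⟩)
    · exact s.V_le_pp ha
    · exact s.comp_le_pp hB ha
  have hUS : U ≤ A := fun a ha => Subgroup.subset_closure (Or.inr ⟨U, hU, ha⟩)
  have hAn : ∀ m ∈ Subgroup.normalizer (V : Set G), ∀ a ∈ A, m * a * m⁻¹ ∈ A := by
    intro m hm a ha
    induction ha using Subgroup.closure_induction with
    | mem x hx =>
      refine Subgroup.subset_closure ?_
      rcases hx with hx | ⟨B, hB, hx⟩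
      · exact Or.inl (s.V_normal hm hx)
      · exact Or.inr ⟨cj m B, s.comp_cj hB hm, conj_mem_cj hx⟩
    | one => simp
    | mul x y _ _ hx hy =>
      rw [show m * (x * y) * m⁻¹ = (m * x * m⁻¹) * (m * y * m⁻¹) by group]
      exact mul_mem hx hy
    | inv x _ hx =>
      rw [show m * x⁻¹ * m⁻¹ = (m * x * m⁻¹)⁻¹ by group]
      exact inv_mem hx
  let Z : Subgroup G := A ⊓ Subgroup.centralizer (A : Set G)
  have hZ : Z = V := by
    refine s.max_abelian Z (le_inf (fun v hv => Subgroup.subset_closure (Or.inl hv))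
      fun v hv => Subgroup.mem_centralizer_iff.2 fun a ha => s.pp_comm (hSP ha) hv)
      (inf_le_left.trans (hSP.trans s.le_normalizer_pp))
      (fun a ha b hb => (Subgroup.mem_centralizer_iff.1 ha.2 b hb.1).symm)
      (fun m hm a ha => ⟨hAn m hm a ha.1, Subgroup.mem_centralizer_iff.2 fun x hx => ?_⟩)
    have e := Subgroup.mem_centralizer_iff.1 ha.2 _ (hAn _ (inv_mem hm) x hx)
    calc x * (m * a * m⁻¹) = m * (m⁻¹ * x * m⁻¹⁻¹ * a) * m⁻¹ := by group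
      _ = _ := by rw [e]; group
  obtain ⟨u, hu, hu1⟩ := s.comp_ne_one hU
  refine hu1 (s.comp_inf hU hu (hZ ▸ ⟨hUS hu, Subgroup.mem_centralizer_iff.2 fun a ha => ?_⟩))
  induction ha using Subgroup.closure_induction with
  | mem x hx =>
    rcases hx with hx | ⟨B, hB, hx⟩
    · exact (s.pp_comm (s.comp_le_pp hU hu) hx).symm
    · exact (hall B hB u hu x hx).symm
  | one => simp
  | mul x y _ _ hx hy => exact Commute.mul_left hx hy
  | inv x _ hx => exact Commute.inv_left hx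

/-- If `U₂` does not centralize `U`, then every element of `P` is in `U₂ E`. -/
theorem Setting.factor {U₂ : Subgroup G} (h₂ : IsComp V Q U₂) {a b : G} (ha : a ∈ U) (hb : b ∈ U₂)
    (hab : a * b ≠ b * a) {p : G} (hp : p ∈ pp V Q) :
    ∃ u₂ ∈ U₂, ∃ e ∈ ee V Q U, p = u₂ * e := by
  obtain ⟨u, hu, hu1⟩ := s.comp_ne_one hU
  have huE : u ∉ ee V Q U₂ := fun h => by
    have hb' : b ∈ ee V Q U :=
      s.mem_ee_of_one hU (s.comp_le_pp h₂ hb) hu hu1 ((ee_def.1 h).2 b hb)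
    exact hab ((ee_def.1 hb').2 a ha)
  obtain ⟨⟨u₂, hu₂⟩, e⟩ := (s.cm_bijective h₂ (s.comp_le_pp hU hu) huE).2
    ⟨cm p u, (s.commutator_mem hp (s.comp_le_pp hU hu)).1⟩
  have e' : cm u u₂ = cm p u := congrArg Subtype.val e
  have hu₂P := s.comp_le_pp h₂ hu₂
  refine ⟨u₂, hu₂, u₂⁻¹ * p, s.mem_ee_of_one hU (mul_mem (inv_mem hu₂P) hp) hu hu1 ?_, by group⟩
  rw [← cm_eq_one, s.cm_left (inv_mem hu₂P) hp (s.comp_le_pp hU hu)]
  have h1 : cm u₂⁻¹ u = cm u₂ u := by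
    rw [inv_eq_of_mul_eq_one_right ((s.conj_comm h₂.1).2 u₂ hu₂)]
  rw [h1, ← e', s.cm_symm (s.comp_le_pp hU hu) hu₂P,
    s.sq _ (s.commutator_mem hu₂P (s.comp_le_pp hU hu)).1]

theorem Setting.center_ee {z : G} (hz : z ∈ ee V Q U) (hc : ∀ e ∈ ee V Q U, z * e = e * z) :
    z ∈ V ⊔ U := by
  obtain ⟨U₂, h₂, a, ha, b, hb, hab⟩ := s.exists_noncomm hU
  obtain ⟨u, hu, e₂, he₂, rfl⟩ := s.factor h₂ hU hb ha (Ne.symm hab) (ee_def.1 hz).1
  have huc : ∀ e ∈ ee V Q U, u * e = e * u := fun e he => (ee_def.1 he).2 u hu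
  have hec : ∀ e ∈ ee V Q U, e₂ * e = e * e₂ := fun e he => by
    have h1 : Commute (u * e₂) e := hc e he
    have h2 : Commute u⁻¹ e := Commute.inv_left (huc e he)
    have := h2.mul_left h1
    rwa [inv_mul_cancel_left] at this
  have hmem : e₂ ∈ V := s.mem_V_of_central (ee_def.1 he₂).1 fun p hp => by
    obtain ⟨u₂, hu₂, e, he, rfl⟩ := s.factor hU h₂ ha hb hab hp
    exact Commute.mul_right ((ee_def.1 he₂).2 u₂ hu₂).symm (hec e he)
  exact mul_mem (Subgroup.mem_sup_right hu) (Subgroup.mem_sup_left hmem)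

/-- An element centralizing `V` and the centralizer of `U` in `P` lies in `V U`. -/
theorem Setting.cent_ee {l : G} (hlV : ∀ v ∈ V, l * v = v * l)
    (hlE : ∀ e ∈ ee V Q U, l * e = e * l) : l ∈ V ⊔ U := by
  obtain ⟨U₂, h₂, a, ha, b, hb, hab⟩ := s.exists_noncomm hU
  have hlM : l ∈ Subgroup.normalizer (V : Set G) := by
    rw [mem_normalizer_iff_cj]
    refine Subgroup.eq_of_le_of_card_ge (fun x hx => ?_) (card_cj _ _).ge
    obtain ⟨v, hv, rfl⟩ := hx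
    show l * v * l⁻¹ ∈ V
    rwa [hlV v hv, mul_inv_cancel_right]
  have hUE : ∀ u ∈ U, u ∈ ee V Q U := fun u hu =>
    ee_def.2 ⟨s.comp_le_pp hU hu, fun u' hu' => (s.conj_comm hU.1).1 u' hu' u hu⟩
  have hd : ∀ p ∈ pp V Q, p⁻¹ * (l * p * l⁻¹) ∈ ee V Q U ∧
      ∀ e ∈ ee V Q U, p⁻¹ * (l * p * l⁻¹) * e = e * (p⁻¹ * (l * p * l⁻¹)) := by
    intro p hp
    have hdP : p⁻¹ * (l * p * l⁻¹) ∈ pp V Q := mul_mem (inv_mem hp) (s.pp_normal hlM hp)
    have hcomm : ∀ e ∈ ee V Q U, p⁻¹ * (l * p * l⁻¹) * e = e * (p⁻¹ * (l * p * l⁻¹)) := by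
      intro e he
      have hle : l * e * l⁻¹ = e := by rw [hlE e he, mul_inv_cancel_right]
      have hlc : l * cm p e * l⁻¹ = cm p e := by
        rw [hlV _ (s.commutator_mem hp (ee_def.1 he).1).1, mul_inv_cancel_right]
      have h1 : (l * p * l⁻¹) * e * (l * p * l⁻¹)⁻¹ = p * e * p⁻¹ := by
        calc (l * p * l⁻¹) * e * (l * p * l⁻¹)⁻¹
            = (l * p * l⁻¹) * (l * e * l⁻¹) * (l * p * l⁻¹)⁻¹ := by rw [hle]
          _ = (l * cm p e * l⁻¹) * (l * e * l⁻¹) := by rw [cm]; group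
          _ = p * e * p⁻¹ := by rw [hlc, hle, cm_mul]
      calc p⁻¹ * (l * p * l⁻¹) * e
          = p⁻¹ * ((l * p * l⁻¹) * e * (l * p * l⁻¹)⁻¹) * (l * p * l⁻¹) := by group
        _ = _ := by rw [h1]; group
    exact ⟨ee_def.2 ⟨hdP, fun u hu => (hcomm u (hUE u hu)).symm⟩, hcomm⟩
  have hkey : ∀ u₂ ∈ U₂, ∃ v ∈ V, l * u₂ * l⁻¹ = u₂ * v := by
    intro u₂ hu₂
    by_cases h1 : u₂ = 1
    · exact ⟨1, one_mem _, by simp [h1]⟩
    obtain ⟨hdE, hdc⟩ := hd u₂ (s.comp_le_pp h₂ hu₂)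
    obtain ⟨v, hv, u₁, hu₁, hvu⟩ := (s.mem_sup_comp hU).1 (s.center_ee hU hdE hdc)
    have hu₂P := s.comp_le_pp h₂ hu₂
    have hu₁P := s.comp_le_pp hU hu₁
    set d := u₂⁻¹ * (l * u₂ * l⁻¹) with hdd
    have hsq2 : u₂ * u₂ = 1 := (s.conj_comm h₂.1).2 u₂ hu₂
    have hinv := inv_eq_of_mul_eq_one_right hsq2
    have hd2 : (u₂ * d) * (u₂ * d) = 1 := by
      rw [hdd, mul_inv_cancel_left]
      calc l * u₂ * l⁻¹ * (l * u₂ * l⁻¹) = l * (u₂ * u₂) * l⁻¹ := by group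
        _ = 1 := by rw [hsq2]; group
    have hdsq : d * d = 1 := by
      rw [← hvu]
      calc v * u₁ * (v * u₁) = v * (u₁ * v) * u₁ := by group
        _ = (v * v) * (u₁ * u₁) := by rw [s.pp_comm hu₁P hv]; group
        _ = 1 := by rw [s.sq v hv, (s.conj_comm hU.1).2 u₁ hu₁, one_mul]
    have hcd : u₂ * d = d * u₂ := by
      rw [← inv_eq_of_mul_eq_one_right hd2, mul_inv_rev, hinv, inv_eq_of_mul_eq_one_right hdsq]
    have hu₁1 : u₁ = 1 := by
      by_contra hne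
      have hdU : u₂ * u₁ = u₁ * u₂ := by
        have h1 : Commute u₂ (v⁻¹ * (v * u₁)) :=
          (Commute.inv_right (s.pp_comm hu₂P hv)).mul_right (hvu ▸ hcd)
        rwa [inv_mul_cancel_left] at h1
      have hE : u₂ ∈ ee V Q U := s.mem_ee_of_one hU hu₂P hu₁ hne hdU
      have ha' : a ∈ ee V Q U₂ :=
        s.mem_ee_of_one h₂ (s.comp_le_pp hU ha) hu₂ h1 ((ee_def.1 hE).2 a ha)
      exact hab ((ee_def.1 ha').2 b hb).symm
    refine ⟨v, hv, ?_⟩
    rw [hu₁1, mul_one] at hvu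
    rw [hvu, hdd, mul_inv_cancel_left]
  obtain ⟨c, hc, hc1⟩ := s.comp_ne_one h₂
  obtain ⟨v, hv, hcv⟩ := hkey c hc
  obtain ⟨p, hp, hpv⟩ := s.exists_cm h₂ hc hc1 hv
  obtain ⟨u, hu, e₂, he₂, rfl⟩ := s.factor h₂ hU hb ha (Ne.symm hab) hp
  have huP := s.comp_le_pp hU hu
  rw [s.cm_left huP (ee_def.1 he₂).1 (s.comp_le_pp h₂ hc),
    cm_eq_one.2 ((ee_def.1 he₂).2 c hc).symm, mul_one] at hpv
  have hB : cj l U₂ = cj u U₂ := by
    refine s.eq_of_mem (s.comp_cj h₂ hlM).1 (s.comp_cj h₂ (s.le_normalizer_pp huP)).1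
      (conj_mem_cj hc) (mem_cj.2 ?_) (fun e => hc1 (by simpa [mul_inv_eq_one] using e))
    have : u⁻¹ * (l * c * l⁻¹) * u = c := by
      rw [hcv, s.pp_comm (s.comp_le_pp h₂ hc) hv, ← hpv, cm_mul]; group
    rw [this]; exact hc
  have hU2 : ∀ u₂ ∈ U₂, l * u₂ * l⁻¹ = u * u₂ * u⁻¹ := by
    intro u₂ hu₂
    obtain ⟨v', hv', e⟩ := hkey u₂ hu₂
    have hu₂P := s.comp_le_pp h₂ hu₂
    have hm : (u * u₂ * u⁻¹)⁻¹ * (l * u₂ * l⁻¹) ∈ cj u U₂ :=
      mul_mem (inv_mem (conj_mem_cj hu₂)) (hB ▸ conj_mem_cj hu₂)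
    have hV : (u * u₂ * u⁻¹)⁻¹ * (l * u₂ * l⁻¹) ∈ V := by
      rw [← cm_mul u u₂, mul_inv_rev, e, mul_assoc]
      have hc' := (s.commutator_mem huP hu₂P).1
      rw [← mul_assoc (cm u u₂)⁻¹, ← s.pp_comm hu₂P (V.inv_mem hc'), mul_assoc,
        inv_mul_cancel_left]
      exact V.mul_mem (V.inv_mem hc') hv'
    have := s.comp_inf (s.comp_cj h₂ (s.le_normalizer_pp huP)) hm hV
    rw [inv_mul_eq_one] at this
    exact this.symm
  have huc : ∀ e ∈ ee V Q U, u * e = e * u := fun e he => (ee_def.1 he).2 u hu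
  have hl'V : u⁻¹ * l ∈ V := by
    refine s.cent_pp (mul_mem (inv_mem (s.le_normalizer_pp huP)) hlM) fun q hq => ?_
    obtain ⟨u₂, hu₂, e, he, rfl⟩ := s.factor hU h₂ ha hb hab hq
    refine Commute.mul_right ?_ (Commute.mul_left (Commute.inv_left (huc e he)) (hlE e he))
    show u⁻¹ * l * u₂ = u₂ * (u⁻¹ * l)
    calc u⁻¹ * l * u₂ = u⁻¹ * (l * u₂ * l⁻¹) * l := by group
      _ = _ := by rw [hU2 u₂ hu₂]; group
  have := mul_mem (Subgroup.mem_sup_right hu : u ∈ V ⊔ U) (Subgroup.mem_sup_left hl'V)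
  rwa [mul_inv_cancel_left] at this

end Cfsg.Lib.TISpecial
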