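import Mathlib

/-!
# Fixed lines of semilinear maps over finite fields
-/

set_option autoImplicit false
set_option linter.unusedSectionVars false

namespace Cfsg.Lib.TISpecial

variable {L : Type*} [Field L] [Finite L]

/-- Distinct powers of an automorphism are independent. -/
theorem exists_sum_smul_ne {W : Type*} [AddCommGroup W] [Module L W] (ρ : L ≃+* L) (m : ℕ)
    (hne : ∀ i, i < m → i ≠ 0 → ρ ^ i ≠ 1) (hm : 0 < m) (a : ℕ → W) (ha : a 0 ≠ 0) :
    ∃ θ : L, ∑ i ∈ Finset.range m, (ρ ^ i) θ • a i ≠ 0 := by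
  obtain ⟨φ, hφ⟩ := Module.Projective.exists_dual_ne_zero L ha
  by_contra! hall
  have hinj : Function.Injective fun i : Fin m => ((ρ ^ (i : ℕ) : L ≃+* L) : L →* L) := by
    intro a b hab
    have hab' : ρ ^ (a : ℕ) = ρ ^ (b : ℕ) := RingEquiv.ext fun x => DFunLike.congr_fun hab x
    rcases lt_trichotomy (a : ℕ) b with h | h | h
    · exact absurd (by rw [pow_sub ρ h.le, ← hab', mul_inv_cancel]) (hne (b - a) (by omega) (by omega))
    · exact Fin.ext h
    · exact absurd (by rw [pow_sub ρ h.le, hab', mul_inv_cancel]) (hne (a - b) (by omega) (by omega))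
  have hli := (linearIndependent_monoidHom L L).comp _ hinj
  have h0 := Fintype.linearIndependent_iff.1 hli (fun i : Fin m => φ (a i)) (by
    ext θ
    have := congrArg φ (hall θ)
    rw [map_sum, map_zero, ← Fin.sum_univ_eq_sum_range (fun i => φ ((ρ ^ i) θ • a i))] at this
    simp only [map_smul, smul_eq_mul] at this
    simp only [Function.comp_apply, Finset.sum_apply, Pi.smul_apply, smul_eq_mul, Pi.zero_apply]
    refine Eq.trans (Finset.sum_congr rfl fun i _ => ?_) this
    exact mul_comm _ _) ⟨0, hm⟩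
  exact hφ h0

/-- Every fixed non-zero element is a norm. -/
theorem exists_norm_eq (ρ : L ≃+* L) (m : ℕ) (hm : 0 < m) (hρ : ρ ^ m = 1)
    (hne : ∀ i, i < m → i ≠ 0 → ρ ^ i ≠ 1) (c : L) (hc : c ≠ 0) (hfix : ρ c = c) :
    ∃ l : L, ∏ i ∈ Finset.range m, (ρ ^ i) l = c := by
  let σ : Lˣ →* Lˣ := Units.map (ρ : L →* L)
  let N : Lˣ →* Lˣ :=
    { toFun := fun u => ∏ i ∈ Finset.range m, Units.map ((ρ ^ i : L ≃+* L) : L →* L) u
      map_one' := by simp
      map_mul' := fun a b => by simp [Finset.prod_mul_distrib] }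
  let ψ : Lˣ →* Lˣ :=
    { toFun := fun u => u * (σ u)⁻¹
      map_one' := by simp
      map_mul' := fun a b => by simp only [map_mul, mul_inv]; exact mul_mul_mul_comm _ _ _ _ }
  have hN : ∀ u : Lˣ, ((N u : Lˣ) : L) = ∏ i ∈ Finset.range m, (ρ ^ i) (u : L) := fun u => by
    simp [N]
  have hker : N.ker ≤ ψ.range := by
    intro u hu
    have h1 : ∏ i ∈ Finset.range m, (ρ ^ i) (u : L) = 1 := by
      rw [← hN, MonoidHom.mem_ker.mp hu, Units.val_one]
    let P : ℕ → L := fun i => ∏ l ∈ Finset.range i, (ρ ^ l) (u : L)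
    obtain ⟨θ, hθ⟩ := exists_sum_smul_ne ρ m hne hm P (by simp [P])
    set w : L := ∑ i ∈ Finset.range m, (ρ ^ i) θ • P i with hw
    let F : ℕ → L := fun i => (ρ ^ i) θ * P i
    have hrec : ∀ i, (u : L) * ρ (F i) = F (i + 1) := fun i => by
      simp only [F, P, map_mul, map_prod, Finset.prod_range_succ']
      simp only [pow_succ', RingAut.mul_apply, pow_zero, RingAut.one_apply]
      ring
    have hF : F m = F 0 := by
      simp only [F, P, h1, hρ, pow_zero, Finset.range_zero, Finset.prod_empty]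
    have hwu : (u : L) * ρ w = w := by
      have hw' : w = ∑ i ∈ Finset.range m, F i := by simp [hw, F]
      rw [hw', map_sum, Finset.mul_sum]
      simp_rw [hrec]
      have := Finset.sum_range_succ F m
      rw [Finset.sum_range_succ' F m, hF] at this
      exact add_right_cancel this
    refine ⟨Units.mk0 w hθ, ?_⟩
    ext
    simp only [ψ, σ, MonoidHom.coe_mk, OneHom.coe_mk, Units.val_mul, Units.val_inv_eq_inv_val,
      Units.coe_map, Units.val_mk0]
    have hρw : ρ w ≠ 0 := by simpa using hθ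
    calc w * (ρ w)⁻¹ = (u : L) * ρ w * (ρ w)⁻¹ := by rw [hwu]
      _ = u := by rw [mul_assoc, mul_inv_cancel₀ hρw, mul_one]
  have hrange : N.range ≤ ψ.ker := by
    rintro _ ⟨u, rfl⟩
    rw [MonoidHom.mem_ker]
    ext
    simp only [ψ, σ, MonoidHom.coe_mk, OneHom.coe_mk, Units.val_mul, Units.val_inv_eq_inv_val,
      Units.coe_map, Units.val_one]
    have hfixN : ρ ((N u : Lˣ) : L) = ((N u : Lˣ) : L) := by
      rw [hN, map_prod]
      obtain ⟨n, rfl⟩ : ∃ n, m = n + 1 := ⟨m - 1, by omega⟩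
      rw [Finset.prod_range_succ, Finset.prod_range_succ']
      simp only [pow_succ', RingAut.mul_apply, pow_zero, RingAut.one_apply]
      congr 1
      rw [← RingAut.mul_apply, ← pow_succ', hρ]; rfl
    show ((N u : Lˣ) : L) * (ρ ((N u : Lˣ) : L))⁻¹ = 1
    rw [hfixN, mul_inv_cancel₀ (Units.ne_zero _)]
  have e1 := N.ker.card_mul_index
  have e2 := ψ.ker.card_mul_index
  rw [Subgroup.index_ker] at e1 e2
  have hle := Nat.le_of_dvd Nat.card_pos (Subgroup.card_dvd_of_le hker)
  have hge : Nat.card ψ.ker ≤ Nat.card N.range := by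
    by_contra hlt
    have : Nat.card N.ker * Nat.card N.range < Nat.card ψ.range * Nat.card ψ.ker :=
      lt_of_le_of_lt (Nat.mul_le_mul_right _ hle)
        ((Nat.mul_lt_mul_left Nat.card_pos).2 (not_le.1 hlt))
    rw [e1, mul_comm, e2] at this
    exact lt_irrefl _ this
  have heq := Subgroup.eq_of_le_of_card_ge hrange hge
  have hmem : Units.mk0 c hc ∈ ψ.ker := by
    rw [MonoidHom.mem_ker]
    ext
    simp [ψ, σ, hfix, hc]
  rw [← heq] at hmem
  obtain ⟨u, hu⟩ := hmem
  exact ⟨u, by rw [← hN, hu, Units.val_mk0]⟩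

/-- A semilinear map with scalar `m`-th power on a vector has an eigenvector. -/
theorem exists_fixed_line {V : Type*} [AddCommGroup V] (j : L →+* AddMonoid.End V) (ρ : L ≃+* L)
    (m : ℕ) (hm : 0 < m) (hρ : ρ ^ m = 1) (hne : ∀ i, i < m → i ≠ 0 → ρ ^ i ≠ 1)
    (x : AddMonoid.End V) (hx : ∀ l, x * j l = j (ρ l) * x) (c : L) (hc : c ≠ 0) (hfix : ρ c = c)
    (v₀ : V) (hv₀ : v₀ ≠ 0) (hv : (x ^ m) v₀ = j c v₀) :
    ∃ (v : V) (l : L), v ≠ 0 ∧ l ≠ 0 ∧ x v = j l v := by
  obtain ⟨l, hl⟩ := exists_norm_eq ρ m hm hρ hne c hc hfix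
  have hl0 : l ≠ 0 := by
    rintro rfl
    apply hc
    rw [← hl]
    exact Finset.prod_eq_zero (Finset.mem_range.2 hm) (map_zero _)
  let z : AddMonoid.End V := j l⁻¹ * x
  have hz : ∀ κ, z * j κ = j (ρ κ) * z := fun κ => by
    simp only [z]
    rw [mul_assoc, hx, ← mul_assoc, ← map_mul, mul_comm l⁻¹, map_mul, mul_assoc]
  have hzp : ∀ n κ, z ^ n * j κ = j ((ρ ^ n) κ) * z ^ n := by
    intro n
    induction n with
    | zero => intro κ; simp
    | succ n ih =>
      intro κ
      rw [pow_succ', mul_assoc, ih, ← mul_assoc, hz, pow_succ', RingAut.mul_apply, mul_assoc]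
  have hzx : ∀ n, z ^ n = j (∏ i ∈ Finset.range n, (ρ ^ i) l⁻¹) * x ^ n := by
    intro n
    induction n with
    | zero => simp
    | succ n ih =>
      rw [pow_succ', ih, ← mul_assoc, hz, mul_assoc, pow_succ' x, Finset.prod_range_succ']
      simp only [z, pow_succ', RingAut.mul_apply, pow_zero, RingAut.one_apply, map_mul, map_prod,
        mul_assoc]
  have hzm : (z ^ m) v₀ = v₀ := by
    rw [hzx]
    show j _ ((x ^ m) v₀) = v₀
    rw [hv]
    show (j (∏ i ∈ Finset.range m, (ρ ^ i) l⁻¹) * j c) v₀ = v₀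
    rw [← map_mul]
    simp_rw [map_inv₀]
    rw [Finset.prod_inv_distrib, hl, inv_mul_cancel₀ hc, map_one]
    rfl
  let _ : Module L V := Module.compHom V j
  have hsm : ∀ (a : L) (u : V), a • u = j a u := fun _ _ => rfl
  obtain ⟨θ, hθ⟩ := exists_sum_smul_ne ρ m hne hm (fun i => (z ^ i) v₀) (by simpa using hv₀)
  refine ⟨_, l, hθ, hl0, ?_⟩
  set F : ℕ → V := fun i => (ρ ^ i) θ • (z ^ i) v₀ with hF
  have hrec : ∀ i, z (F i) = F (i + 1) := fun i => by
    simp only [hF, hsm]
    show (z * j ((ρ ^ i) θ)) ((z ^ i) v₀) = _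
    rw [hz, pow_succ', pow_succ', RingAut.mul_apply]
    rfl
  have hF0 : F m = F 0 := by
    simp only [hF, hρ, hzm, pow_zero]
    rfl
  have hzw : z (∑ i ∈ Finset.range m, F i) = ∑ i ∈ Finset.range m, F i := by
    rw [map_sum]
    simp_rw [hrec]
    have := Finset.sum_range_succ F m
    rw [Finset.sum_range_succ' F m, hF0] at this
    exact add_right_cancel this
  have hxz : x = j l * z := by
    simp only [z]
    rw [← mul_assoc, ← map_mul, mul_inv_cancel₀ hl0, map_one, one_mul]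
  rw [hxz]
  show j l (z _) = _
  rw [hzw]

end Cfsg.Lib.TISpecial
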