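import Cfsg.Agent.TISpecial.Twist

/-!
# Additive sets of invertible endomorphisms closed under inversion, in characteristic two
-/

set_option autoImplicit false
set_option linter.unusedSectionVars false

namespace Cfsg.Lib.TISpecial

variable {V : Type*} [AddCommGroup V] [Finite V]

/-- An additive set of size `|V|`, consisting of invertible endomorphisms and zero, closed under inversion. -/
structure SpreadSet (S : AddSubgroup (AddMonoid.End V)) : Prop where
  two : ∀ v : V, v + v = 0
  one : (1 : AddMonoid.End V) ∈ S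
  inv : ∀ s ∈ S, s ≠ 0 → ∃ t ∈ S, s * t = 1
  card : Nat.card S = Nat.card V

instance finite_end : Finite (AddMonoid.End V) :=
  Finite.of_injective (fun f : AddMonoid.End V => (f : V → V)) DFunLike.coe_injective

variable {S : AddSubgroup (AddMonoid.End V)} (h : SpreadSet S)
include h

theorem SpreadSet.add_self (z : AddMonoid.End V) : z + z = 0 :=
  AddMonoidHom.ext fun v => h.two (z v)

theorem SpreadSet.neg_eq (z : AddMonoid.End V) : -z = z :=
  (eq_neg_of_add_eq_zero_left (h.add_self z)).symm

theorem SpreadSet.sub_eq (z w : AddMonoid.End V) : z - w = z + w := by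
  rw [sub_eq_add_neg, h.neg_eq]

theorem SpreadSet.eq_of_add_eq_zero {z w : AddMonoid.End V} (e : z + w = 0) : z = w := by
  rw [eq_neg_of_add_eq_zero_left e, h.neg_eq]

theorem SpreadSet.isUnit {s : AddMonoid.End V} (hs : s ∈ S) (h0 : s ≠ 0) : IsUnit s := by
  obtain ⟨t, -, ht⟩ := h.inv s hs h0
  exact IsUnit.of_mul_eq_one t ht

theorem SpreadSet.eq_zero_of_apply {s : AddMonoid.End V} (hs : s ∈ S) {v : V} (hv : v ≠ 0)
    (e : s v = 0) : s = 0 := by
  by_contra h0
  obtain ⟨t, -, ht⟩ := h.inv s hs h0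
  have : t * s = 1 := mul_eq_one_comm.1 ht
  exact hv (by simpa [e] using (DFunLike.congr_fun this v).symm)

theorem SpreadSet.aba_mem {a b : AddMonoid.End V} (ha : a ∈ S) (hb : b ∈ S) : a * b * a ∈ S := by
  by_cases ha0 : a = 0
  · simp [ha0]
  by_cases hb0 : b = 0
  · simp [hb0]
  obtain ⟨a', ha', haa⟩ := h.inv a ha ha0
  obtain ⟨b', hb', hbb⟩ := h.inv b hb hb0
  by_cases hu : b' + a = 0
  · have : b' = a := h.eq_of_add_eq_zero hu
    subst this
    rw [mul_eq_one_comm.1 hbb, one_mul]
    exact ha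
  obtain ⟨u', hu', huu⟩ := h.inv _ (S.add_mem hb' ha) hu
  have haa' : a' * a = 1 := mul_eq_one_comm.1 haa
  have hbb' : b' * b = 1 := mul_eq_one_comm.1 hbb
  have e2 : a + a * b * a = (b' + a) * b * a := by
    rw [add_mul, add_mul, hbb', one_mul]
  have e1 : a' + u' = a' * b' * u' := by
    calc a' + u' = a' * ((b' + a) * u') + a' * a * u' := by rw [huu, haa', mul_one, one_mul]
      _ = a' * b' * u' + (a' * a * u' + a' * a * u') := by noncomm_ring
      _ = a' * b' * u' := by rw [h.add_self, add_zero]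
  have e3 : (a' + u') * (a + a * b * a) = 1 := by
    rw [e1, e2]
    calc a' * b' * u' * ((b' + a) * b * a) = a' * b' * (u' * (b' + a)) * b * a := by
          simp only [mul_assoc]
      _ = 1 := by
        rw [mul_eq_one_comm.1 huu, mul_one, mul_assoc a', hbb', mul_one, haa']
  have hne : a' + u' ≠ 0 := by
    intro e
    rw [e, zero_mul] at e3
    apply ha0
    rw [← one_mul a, ← e3, zero_mul]
  obtain ⟨t, ht, htt⟩ := h.inv _ (S.add_mem ha' hu') hne
  have : t = a + a * b * a := by
    have h1 : t * (a' + u') = 1 := mul_eq_one_comm.1 htt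
    calc t = t * ((a' + u') * (a + a * b * a)) := by rw [e3, mul_one]
      _ = _ := by rw [← mul_assoc, h1, one_mul]
  rw [this] at ht
  simpa [← add_assoc, h.add_self] using S.add_mem ha ht

theorem SpreadSet.polar_mem {a b c : AddMonoid.End V} (ha : a ∈ S) (hb : b ∈ S) (hc : c ∈ S) :
    a * b * c + c * b * a ∈ S := by
  have e : a * b * c + c * b * a =
      (a + c) * b * (a + c) - a * b * a - c * b * c := by noncomm_ring
  rw [e]
  exact S.sub_mem (S.sub_mem (h.aba_mem (S.add_mem ha hc) hb) (h.aba_mem ha hb)) (h.aba_mem hc hb)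

theorem SpreadSet.pow_mem {a : AddMonoid.End V} (ha : a ∈ S) : ∀ n : ℕ, a ^ n ∈ S
  | 0 => by simpa using h.one
  | 1 => by simpa using ha
  | n + 2 => by
    rw [pow_succ, pow_succ']
    exact h.aba_mem ha (SpreadSet.pow_mem ha n)

theorem SpreadSet.eq_one_of_sq {s : AddMonoid.End V} (hs : s ∈ S) (e : s * s = 1) : s = 1 := by
  by_contra hne
  have h0 : s + 1 ≠ 0 := fun e0 => hne (h.eq_of_add_eq_zero e0)
  have : (s + 1) * (s + 1) = 0 := by
    calc (s + 1) * (s + 1) = (s * s + 1) + (s + s) := by noncomm_ring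
      _ = 0 := by rw [e, h.add_self, h.add_self, add_zero]
  exact h0 (((h.isUnit (S.add_mem hs h.one) h0).mul_right_eq_zero).1 this)

end Cfsg.Lib.TISpecial
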