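import Cfsg.Agent.TISpecial.Components

/-!
# The symmetry between `V` and its conjugate
-/

set_option autoImplicit false
set_option linter.unusedSectionVars false

namespace Cfsg.Lib.TISpecial

variable {G : Type*} [Group G] [Finite G] {V Q : Subgroup G} {g : G}
  (s : Setting V Q) (hU : IsComp V Q (cj g V))
include s hU

theorem Setting.exists_mover : ∃ x : G, cj x (cj g V) = cj g V ∧ cj x V ≤ V ⊔ cj g V ∧ cj x V ≠ V := by
  classical
  have s' := s.transport g
  set U := cj g V with hUdef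
  set P' := pp U (cj g Q) with hP'
  have hVM' : ∀ v ∈ V, v ∈ Subgroup.normalizer (U : Set G) := fun v hv => by
    rw [mem_normalizer_iff_cj]
    refine Subgroup.eq_of_le_of_card_ge ?_ (card_cj _ _).ge
    rintro _ ⟨u, hu, rfl⟩
    show v * u * v⁻¹ ∈ U
    rw [← s.pp_comm (s.comp_le_pp hU hu) hv, mul_inv_cancel_right]
    exact hu
  have hfix : ∀ x, (∀ u ∈ U, x * u = u * x) → cj x U = U := fun x hx => by
    refine Subgroup.eq_of_le_of_card_ge ?_ (card_cj _ _).ge
    rintro _ ⟨u, hu, rfl⟩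
    show x * u * x⁻¹ ∈ U
    rw [hx u hu, mul_inv_cancel_right]; exact hu
  by_cases hmeet : ∃ v ∈ V, v ∈ P' ∧ v ≠ 1
  · obtain ⟨v, hv, hvP, hv1⟩ := hmeet
    have hvU : v ∉ U := fun h => hv1 (s.comp_inf hU h hv)
    obtain ⟨p, hp, hne⟩ : ∃ p ∈ P', cm p v ≠ 1 := by
      by_contra! hall
      exact hvU (s'.mem_V_of_central hvP fun p hp => (cm_eq_one.1 (hall p hp)).symm)
    have hw : cm p v ∈ U := (s'.commutator_mem hp hvP).1
    have hpW : p * v * p⁻¹ ∈ V ⊔ U := by
      rw [← cm_mul]; exact mul_mem (Subgroup.mem_sup_right hw) (Subgroup.mem_sup_left hv)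
    have hnV : p * v * p⁻¹ ∉ V := fun h => hne (s.comp_inf hU hw (by
      have := V.mul_mem h (V.inv_mem hv)
      simpa [cm] using this))
    obtain ⟨q, hq, hmem⟩ := s.mem_component hU hpW hnV
    have hc := s.comp_cj hU (s.le_normalizer_pp hq)
    have e : cj p V = cj q U := s.eq_of_mem ⟨p, rfl⟩ hc.1 (conj_mem_cj hv) hmem
      fun e => hv1 (by simpa [mul_inv_eq_one] using e)
    exact ⟨p, hfix p fun u hu => s'.pp_comm hp hu, e ▸ s.cj_le_sup hU hq, e ▸ hc.2.2⟩
  · push_neg at hmeet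
    have hMP : ∀ x ∈ P', x ∈ Subgroup.normalizer (V : Set G) → ∀ v ∈ V, v * x = x * v := by
      intro x hx hxM v hv
      have h1 : cm x v ∈ V := V.mul_mem (s.V_normal hxM hv) (V.inv_mem hv)
      have h2 : cm x v ∈ P' := by
        have := P'.mul_mem hx (s'.pp_normal (hVM' v hv) (P'.inv_mem hx))
        simpa [cm, mul_assoc] using this
      exact (cm_eq_one.1 (hmeet _ h1 h2)).symm
    let K₁ : Subgroup G := P' ⊓ Subgroup.centralizer (V : Set G)
    let E := ee V Q U
    let X : Subgroup G := E ⊔ P'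
    let K : Subgroup G := E ⊔ K₁
    have hEN : E ≤ Subgroup.normalizer (U : Set G) := fun e he => by
      rw [mem_normalizer_iff_cj]
      exact hfix e fun u hu => ((ee_def.1 he).2 u hu).symm
    have hEP' : E ≤ Subgroup.normalizer (P' : Set G) := fun e he => by
      rw [mem_normalizer_iff_cj]
      refine Subgroup.eq_of_le_of_card_ge ?_ (card_cj _ _).ge
      rintro _ ⟨x, hx, rfl⟩
      exact s'.pp_normal (hEN he) hx
    have : Fact (Nat.Prime 2) := ⟨Nat.prime_two⟩
    have hX2 : IsPGroup 2 X := by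
      have h1 : IsPGroup 2 E := (s.Q_two.to_le inf_le_left).to_le inf_le_left
      exact h1.to_sup_of_normal_right' (s'.Q_two.to_le inf_le_left) hEP'
    have hKX : K ≤ X := sup_le le_sup_left (inf_le_left.trans le_sup_right)
    have hKV : ∀ k ∈ K, ∀ v ∈ V, v * k = k * v := by
      intro k hk v hv
      have : K ≤ Subgroup.centralizer (V : Set G) :=
        sup_le (inf_le_left.trans inf_le_right) inf_le_right
      exact Subgroup.mem_centralizer_iff.1 (this hk) v hv
    have hXU : ∀ x ∈ X, ∀ u ∈ U, u * x = x * u := by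
      intro x hx u hu
      have : X ≤ Subgroup.centralizer (U : Set G) := sup_le inf_le_right inf_le_right
      exact Subgroup.mem_centralizer_iff.1 (this hx) u hu
    have hne : ¬ X ≤ K := by
      intro h
      obtain ⟨⟨v, hv⟩, hv1⟩ := Subgroup.ne_bot_iff_exists_ne_one.1 s.ne_bot
      refine hv1 (Subtype.ext (s.comp_inf hU (s'.cent_pp (hVM' v hv) fun p hp => ?_) hv))
      exact hKV p (h (le_sup_right (a := E) hp)) v hv
    have hnil : Group.IsNilpotent X := hX2.isNilpotent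
    have hlt : K.subgroupOf X < ⊤ := lt_top_iff_ne_top.2 fun e =>
      hne (Subgroup.subgroupOf_eq_top.1 e)
    obtain ⟨⟨x, hxX⟩, hxN, hxK⟩ :=
      SetLike.exists_of_lt (Group.normalizerCondition_of_isNilpotent _ hlt)
    have hxK' : x ∉ K := fun h => hxK h
    have hxKn : ∀ k ∈ K, x * k * x⁻¹ ∈ K ∧ x⁻¹ * k * x ∈ K := by
      intro k hk
      have h1 := (Subgroup.mem_normalizer_iff.1 hxN (⟨k, hKX hk⟩ : X)).1 hk
      have h2 := (Subgroup.mem_normalizer_iff.1 (inv_mem hxN) (⟨k, hKX hk⟩ : X)).1 hk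
      rw [inv_inv] at h2
      exact ⟨h1, h2⟩
    have hVW : cj x V ≤ V ⊔ U := by
      rintro _ ⟨v, hv, rfl⟩
      have hk : ∀ k ∈ K, Commute (x * v * x⁻¹) k := fun k hk => by
        have e := hKV _ (hxKn k hk).2 v hv
        show x * v * x⁻¹ * k = k * (x * v * x⁻¹)
        calc x * v * x⁻¹ * k = x * (v * (x⁻¹ * k * x)) * x⁻¹ := by group
          _ = _ := by rw [e]; group
      refine s.cent_ee hU (fun w hw => hk w ?_) fun e he => hk e (le_sup_left (b := K₁) he)
      exact le_sup_left (b := K₁) (ee_def.2 ⟨s.V_le_pp hw,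
        fun u hu => s.pp_comm (s.comp_le_pp hU hu) hw⟩)
    refine ⟨x, hfix x fun u hu => (hXU x hxX u hu).symm, hVW, fun e => hxK' ?_⟩
    have hx' : x ∈ ((E ⊔ P' : Subgroup G) : Set G) := hxX
    rw [Subgroup.coe_mul_of_left_le_normalizer_right E P' hEP'] at hx'
    obtain ⟨a, ha, b, hb, rfl⟩ := hx'
    refine mul_mem (Subgroup.mem_sup_left ha) (Subgroup.mem_sup_right ⟨hb,
      Subgroup.mem_centralizer_iff.2 (hMP b hb ?_)⟩)
    have := mul_mem (inv_mem (s.le_normalizer_pp (ee_def.1 ha).1)) (mem_normalizer_iff_cj.2 e)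
    simpa using this

/-- Part (a), in the form that `V` is one of the components for the conjugate setting. -/
theorem Setting.comp_symm : IsComp (cj g V) (cj g Q) V := by
  obtain ⟨x, hxU, hxW, hxne⟩ := s.exists_mover hU
  obtain ⟨p, hp, hpe⟩ := s.conj_in_sup hU ⟨x, rfl⟩ hxW hxne
  refine ⟨s.self_conj.imp' (fun _ => g⁻¹) fun y _ => by rw [← cj_mul, inv_mul_cancel, cj_one],
    ?_, hU.2.2.symm⟩
  set σ := p⁻¹ * x
  have hσV : cj σ V = cj g V := by
    rw [cj_mul, hpe, ← cj_mul, inv_mul_cancel, cj_one]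
  have hσU : cj σ (cj g V) = cj p⁻¹ (cj g V) := by rw [cj_mul, hxU]
  have hσQ : cj σ Q = cj g Q := by
    have hn : g⁻¹ * σ ∈ Subgroup.normalizer (V : Set G) := by
      rw [mem_normalizer_iff_cj, cj_mul, hσV, ← cj_mul, inv_mul_cancel, cj_one]
    have e : cj (g⁻¹ * σ) Q = Q := by
      refine Subgroup.eq_of_le_of_card_ge ?_ (card_cj _ _).ge
      rintro _ ⟨q, hq, rfl⟩
      exact s.Q_norm _ hn q hq
    calc cj σ Q = cj g (cj (g⁻¹ * σ) Q) := by rw [← cj_mul, mul_inv_cancel_left]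
      _ = _ := by rw [e]
  have hgU : cj g V ≤ cj g Q := cj_le_cj s.le_Q
  have hB : cj p⁻¹ (cj g V) ≤ cj g Q := by
    rw [← hσU, ← hσQ]; exact cj_le_cj hU.2.1
  have hpE : p⁻¹ ∉ ee V Q (cj g V) := by
    intro h
    have e1 : cj p (cj g V) = cj g V := by
      refine Subgroup.eq_of_le_of_card_ge ?_ (card_cj _ _).ge
      rintro _ ⟨u, hu, rfl⟩
      show p * u * p⁻¹ ∈ cj g V
      rw [mul_assoc, (ee_def.1 h).2 u hu, mul_inv_cancel_left]
      exact hu
    rw [e1, ← hxU] at hpe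
    have h2 := congrArg (cj x⁻¹) hpe
    rw [← cj_mul, ← cj_mul, inv_mul_cancel, cj_one, cj_one] at h2
    exact hU.2.2 h2.symm
  intro v hv
  obtain ⟨⟨u, hu⟩, e⟩ := (s.cm_bijective hU (inv_mem hp) hpE).2 ⟨v, hv⟩
  have e' : cm p⁻¹ u = v := congrArg Subtype.val e
  rw [← e']
  exact mul_mem (hB (conj_mem_cj hu)) (inv_mem (hgU hu))

end Cfsg.Lib.TISpecial
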