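import Cfsg.Agent.TISpecial.Jordan
import Cfsg.Agent.TISpecial.FixedLine

/-!
# Symmetric pairs of twisted elements in a spread set
-/

set_option autoImplicit false
set_option linter.unusedSectionVars false

namespace Cfsg.Lib.TISpecial

variable {V : Type*} [AddCommGroup V] [Finite V]
  {S : AddSubgroup (AddMonoid.End V)} (h : SpreadSet S)
  {K : Type*} [Field K] [Finite K] [Algebra (ZMod 2) K]

theorem toRingEquiv_pow (ρ : K ≃ₐ[ZMod 2] K) (i : ℕ) :
    (ρ : K ≃+* K) ^ i = ((ρ ^ i : K ≃ₐ[ZMod 2] K) : K ≃+* K) := by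
  induction i with
  | zero => rfl
  | succ i ih => rw [pow_succ, pow_succ, ih]; rfl

/-- The pair `x, y` with all its scaled sums in `S`. -/
structure PairData (S : AddSubgroup (AddMonoid.End V)) (j : K →+* AddMonoid.End V)
    (ρ : K ≃ₐ[ZMod 2] K) (x y : AddMonoid.End V) (a b : K) : Prop where
  twx : Tw j ρ x
  twy : Tw j ρ⁻¹ y
  x_ne : x ≠ 0
  xy : x * y = j a
  yx : y * x = j b
  mem : ∀ κ μ, j κ + j μ * x + j (ρ⁻¹ μ) * y ∈ S
  sq_ne : ρ * ρ ≠ 1

variable {j : K →+* AddMonoid.End V} {ρ : K ≃ₐ[ZMod 2] K} {x y : AddMonoid.End V} {a b : K}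
  (P : PairData S j ρ x y a b)
include P

theorem PairData.ne_one : ρ ≠ 1 := by
  rintro rfl
  exact P.sq_ne (one_mul 1)

theorem PairData.inv_ne : ρ⁻¹ ≠ ρ := fun e => P.sq_ne (by nth_rw 1 [← e]; rw [inv_mul_cancel])

theorem PairData.inj {ι : Type*} [Fintype ι] {e f : ι → K} (D : DualPair e f) {κ μ : K}
    (h0 : j κ + j μ * x + j (ρ⁻¹ μ) * y = 0) : κ = 0 ∧ μ = 0 := by
  have hne : Nontrivial (AddMonoid.End V) := ⟨x, 0, P.x_ne⟩
  have hp := congrArg (proj j e f ρ) h0
  rw [map_zero, map_add, map_add, proj_of_ne D (tw_coe κ) P.ne_one,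
    proj_self D (P.twx.coe_mul μ), proj_of_ne D (P.twy.coe_mul _) P.inv_ne.symm, zero_add,
    add_zero] at hp
  have hμ : μ = 0 := by
    by_contra hμ
    exact P.x_ne (eq_zero_of_coe_mul hμ hp)
  subst hμ
  simp only [map_zero, zero_mul, add_zero] at h0
  exact ⟨(map_eq_zero j).1 h0, rfl⟩

include h in
/-- No vector is an eigenvector for the scalar `x ^ m`. -/
theorem PairData.no_eigen {ι : Type*} [Fintype ι] {e f : ι → K} (D : DualPair e f)
    {c : K} (hc : c ≠ 0) (hfix : ρ c = c) {v₀ : V} (hv₀ : v₀ ≠ 0)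
    (hv : (x ^ orderOf ρ) v₀ = j c v₀) : False := by
  classical
  have hm : 0 < orderOf ρ := orderOf_pos ρ
  obtain ⟨v, l, hv1, hl, hxv⟩ := exists_fixed_line j (ρ : K ≃+* K) (orderOf ρ) hm
    (by rw [toRingEquiv_pow, pow_orderOf_eq_one]; rfl)
    (fun i hi hi0 e => pow_ne_one_of_lt_orderOf hi0 hi (AlgEquiv.ext fun k => by
      have := DFunLike.congr_fun e k
      rwa [toRingEquiv_pow] at this))
    x P.twx c hc hfix v₀ hv₀ hv
  have hl' : ρ⁻¹ l ≠ 0 := by simpa using hl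
  have hyv : y v = j ((ρ⁻¹ l)⁻¹ * b) v := by
    have h1 : j b v = j (ρ⁻¹ l) (y v) := by
      rw [← P.yx]
      show y (x v) = _
      rw [hxv]
      show (y * j l) v = _
      rw [P.twy l]
      rfl
    rw [map_mul]
    show y v = j (ρ⁻¹ l)⁻¹ (j b v)
    rw [h1]
    show y v = (j (ρ⁻¹ l)⁻¹ * j (ρ⁻¹ l)) (y v)
    rw [← map_mul, inv_mul_cancel₀ hl', map_one]
    rfl
  let Φ : K × K → K := fun p => p.1 + p.2 * l + ρ⁻¹ p.2 * ((ρ⁻¹ l)⁻¹ * b)
  have hΦ : ∀ p : K × K, (j p.1 + j p.2 * x + j (ρ⁻¹ p.2) * y) v = j (Φ p) v := fun p => by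
    show j p.1 v + j p.2 (x v) + j (ρ⁻¹ p.2) (y v) = _
    rw [hxv, hyv]
    simp only [Φ, map_add, map_mul]
    rfl
  have hinj : Function.Injective Φ := by
    intro p q hpq
    have hS := P.mem (p.1 - q.1) (p.2 - q.2)
    have e1 : (j (p.1 - q.1) + j (p.2 - q.2) * x + j (ρ⁻¹ (p.2 - q.2)) * y) v = 0 := by
      rw [hΦ (p.1 - q.1, p.2 - q.2)]
      have : Φ (p.1 - q.1, p.2 - q.2) = Φ p - Φ q := by simp only [Φ, map_sub]; ring
      rw [this, hpq, sub_self, map_zero]
      rfl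
    obtain ⟨h1, h2⟩ := P.inj D (h.eq_zero_of_apply hS hv1 e1)
    exact Prod.ext (sub_eq_zero.1 h1) (sub_eq_zero.1 h2)
  have h1 := Nat.card_le_card_of_injective Φ hinj
  rw [Nat.card_prod] at h1
  have h2 : 1 < Nat.card K := Finite.one_lt_card
  nlinarith

/-- The pair with the roles of `x` and `y` exchanged. -/
theorem PairData.swap (hy : y ≠ 0) : PairData S j ρ⁻¹ y x b a where
  twx := P.twy
  twy := by rw [inv_inv]; exact P.twx
  x_ne := hy
  xy := P.yx
  yx := P.xy
  mem κ μ := by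
    have := P.mem κ (ρ μ)
    rw [show ρ⁻¹ (ρ μ) = μ from ρ.symm_apply_apply μ] at this
    rw [inv_inv, add_right_comm]
    exact this
  sq_ne e := P.sq_ne (by rw [← inv_inv (ρ * ρ), mul_inv_rev, e, inv_one])

theorem PairData.twist_ab : ρ b = a := by
  by_contra hne
  refine P.x_ne (eq_zero_of_coe_mul (j := j) (sub_ne_zero.2 hne) ?_)
  rw [map_sub, sub_mul, ← P.twx, ← P.yx, ← mul_assoc, P.xy, sub_self]

theorem PairData.pow_mul_pow : ∀ n : ℕ, ∃ N : K, x ^ n * y ^ n = j N ∧ (a ≠ 0 → N ≠ 0) ∧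
    (a = 0 → 0 < n → N = 0)
  | 0 => ⟨1, by simp, fun _ => one_ne_zero, fun _ h => absurd h (lt_irrefl _)⟩
  | n + 1 => by
    obtain ⟨N, hN, h1, -⟩ := PairData.pow_mul_pow n
    refine ⟨(ρ ^ n) a * N, ?_, fun ha => mul_ne_zero ((map_ne_zero _).2 ha) (h1 ha), fun ha _ => ?_⟩
    · rw [pow_succ, pow_succ', mul_assoc, ← mul_assoc x, P.xy, ← mul_assoc, P.twx.pow n a,
        mul_assoc, hN, ← map_mul]
    · rw [ha, map_zero, zero_mul]

theorem PairData.commute_pow {m : ℕ} (hρ : ρ ^ m = 1) (hm : 0 < m) : x * y ^ m = y ^ m * x := by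
  obtain ⟨n, rfl⟩ : ∃ n, m = n + 1 := ⟨m - 1, by omega⟩
  have hn : (ρ⁻¹ ^ n : K ≃ₐ[ZMod 2] K) = ρ := by
    rw [inv_pow]
    rw [pow_succ] at hρ
    exact inv_eq_of_mul_eq_one_right hρ
  conv_lhs => rw [pow_succ', ← mul_assoc, P.xy]
  conv_rhs => rw [pow_succ, mul_assoc, P.yx, P.twy.pow n b, hn, P.twist_ab]

/-- Lower terms. -/
def lowTerms (j : K →+* AddMonoid.End V) (x y : AddMonoid.End V) (n : ℕ) :
    AddSubgroup (AddMonoid.End V) :=
  AddSubgroup.closure {z | ∃ i κ, i < n ∧ i % 2 = n % 2 ∧ (z = j κ * x ^ i ∨ z = j κ * y ^ i)}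

omit P in
theorem mem_lowX {n i : ℕ} (κ : K) (h1 : i < n) (h2 : i % 2 = n % 2) :
    j κ * x ^ i ∈ lowTerms j x y n :=
  AddSubgroup.subset_closure ⟨i, κ, h1, h2, Or.inl rfl⟩

omit P in
theorem mem_lowY {n i : ℕ} (κ : K) (h1 : i < n) (h2 : i % 2 = n % 2) :
    j κ * y ^ i ∈ lowTerms j x y n :=
  AddSubgroup.subset_closure ⟨i, κ, h1, h2, Or.inr rfl⟩

theorem PairData.expand : ∀ n : ℕ, 0 < n →
    (x + y) ^ n - (x ^ n + y ^ n) ∈ lowTerms j x y n := by
  intro n hn
  induction n, hn using Nat.le_induction with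
  | base => simp
  | succ n hn ih =>
    have hn1 : n - 1 + 1 = n := by omega
    have hstep : ∀ z ∈ lowTerms j x y n, (x + y) * z ∈ lowTerms j x y (n + 1) := by
      intro z hz
      induction hz using AddSubgroup.closure_induction with
      | mem z hz =>
        obtain ⟨i, κ, hi, hpar, hz⟩ := hz
        rcases hz with rfl | rfl
        · rw [add_mul, ← mul_assoc, ← mul_assoc, P.twx, P.twy, mul_assoc, mul_assoc, ← pow_succ']
          refine add_mem (mem_lowX _ (by omega) (by omega)) ?_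
          rcases i with - | i
          · rw [pow_zero, mul_one]
            have := mem_lowY (j := j) (x := x) (y := y) (n := n + 1) (i := 1) (ρ⁻¹ κ) (by omega) (by omega)
            rwa [pow_one] at this
          · rw [pow_succ' x i, ← mul_assoc y, P.yx, ← mul_assoc, ← map_mul]
            exact mem_lowX _ (by omega) (by omega)
        · rw [add_mul, ← mul_assoc, ← mul_assoc, P.twx, P.twy, mul_assoc, mul_assoc, ← pow_succ']
          refine add_mem ?_ (mem_lowY _ (by omega) (by omega))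
          rcases i with - | i
          · rw [pow_zero, mul_one]
            have := mem_lowX (j := j) (x := x) (y := y) (n := n + 1) (i := 1) (ρ κ) (by omega) (by omega)
            rwa [pow_one] at this
          · rw [pow_succ' y i, ← mul_assoc x, P.xy, ← mul_assoc, ← map_mul]
            exact mem_lowY _ (by omega) (by omega)
      | zero => simp
      | add z w _ _ hz hw => rw [mul_add]; exact add_mem hz hw
      | neg z _ hz => rw [mul_neg]; exact neg_mem hz
    have e : (x + y) ^ (n + 1) - (x ^ (n + 1) + y ^ (n + 1)) =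
        (x + y) * ((x + y) ^ n - (x ^ n + y ^ n)) + (y * x ^ n + x * y ^ n) := by
      rw [pow_succ' (x + y), pow_succ' x, pow_succ' y]; noncomm_ring
    rw [e]
    refine add_mem (hstep _ ih) (add_mem ?_ ?_)
    · rw [← hn1, pow_succ', ← mul_assoc, P.yx, hn1]
      exact mem_lowX _ (by omega) (by omega)
    · rw [← hn1, pow_succ', ← mul_assoc, P.xy, hn1]
      exact mem_lowY _ (by omega) (by omega)

theorem PairData.pow_zero_case (ha : a = 0) (hb : b = 0) :
    ∀ n : ℕ, 0 < n → (x + y) ^ n = x ^ n + y ^ n := by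
  intro n hn
  induction n, hn using Nat.le_induction with
  | base => simp
  | succ n hn ih =>
    obtain ⟨n, rfl⟩ : ∃ k, n = k + 1 := ⟨n - 1, by omega⟩
    rw [pow_succ' (x + y), ih, add_mul, mul_add, mul_add, ← pow_succ', ← pow_succ']
    have e1 : x * y ^ (n + 1) = 0 := by rw [pow_succ', ← mul_assoc, P.xy, ha, map_zero, zero_mul]
    have e2 : y * x ^ (n + 1) = 0 := by rw [pow_succ', ← mul_assoc, P.yx, hb, map_zero, zero_mul]
    rw [e1, e2, add_zero, zero_add]

theorem PairData.proj_low {ι : Type*} [Fintype ι] {e f : ι → K} (D : DualPair e f) {m : ℕ}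
    (hm : m = orderOf ρ) (hodd : m % 2 = 1) {z : AddMonoid.End V} (hz : z ∈ lowTerms j x y m) :
    proj j e f 1 z = 0 := by
  induction hz using AddSubgroup.closure_induction with
  | mem z hz =>
    obtain ⟨i, κ, hi, hpar, hz⟩ := hz
    have hne : ρ ^ i ≠ 1 := pow_ne_one_of_lt_orderOf (by omega) (by omega)
    rcases hz with rfl | rfl
    · exact proj_of_ne D ((P.twx.pow i).coe_mul κ) hne.symm
    · refine proj_of_ne D ((P.twy.pow i).coe_mul κ) ?_
      rw [inv_pow]
      exact fun e => hne (inv_eq_one.1 e.symm)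
  | zero => exact map_zero _
  | add z w _ _ hz hw => rw [map_add, hz, hw, add_zero]
  | neg z _ hz => rw [map_neg, hz, neg_zero]

end Cfsg.Lib.TISpecial
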