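import Cfsg.Agent.TISpecial.Pair

/-!
# The quadratic extension case
-/

set_option autoImplicit false
set_option linter.unusedSectionVars false

namespace Cfsg.Lib.TISpecial

variable {V : Type*} [AddCommGroup V] [Finite V]
  {S : AddSubgroup (AddMonoid.End V)} (h : SpreadSet S)
  {K : Type*} [Field K] [Finite K] [Algebra (ZMod 2) K]
  {j : K →+* AddMonoid.End V} {ρ : K ≃ₐ[ZMod 2] K} {x y : AddMonoid.End V} {a b : K}
  (P : PairData S j ρ x y a b)
include h P

/-- The scalar `x ^ m` cannot generate a quadratic extension. -/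
theorem PairData.no_quadratic {ι : Type*} [Fintype ι] {e f : ι → K} (D : DualPair e f)
    (ha : a ≠ 0) (hodd : orderOf ρ % 2 = 1) (hm3 : 3 ≤ orderOf ρ) (C N : K)
    (hq : x ^ orderOf ρ * x ^ orderOf ρ + j C * x ^ orderOf ρ + j N = 0)
    (hroot : ∀ t : K, t * t + C * t + N ≠ 0) : False := by
  classical
  have hnt : Nontrivial (AddMonoid.End V) := ⟨x, 0, P.x_ne⟩
  have hjinj : Function.Injective j := j.injective
  set m := orderOf ρ with hm
  set X := x ^ m with hX
  have htwX : Tw j 1 X := by rw [← pow_orderOf_eq_one ρ]; exact P.twx.pow _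
  have hXj : ∀ k, X * j k = j k * X := fun k => by simpa using htwX k
  let L : Subring (AddMonoid.End V) :=
    { carrier := {z | ∃ κ μ, z = j κ + j μ * X}
      mul_mem' := by
        rintro _ _ ⟨κ, μ, rfl⟩ ⟨κ', μ', rfl⟩
        refine ⟨κ * κ' + μ * μ' * N, κ * μ' + μ * κ' + μ * μ' * C, ?_⟩
        have hX2 : X * X = j C * X + j N := h.eq_of_add_eq_zero (by rw [← add_assoc]; exact hq)
        calc (j κ + j μ * X) * (j κ' + j μ' * X)
            = j κ * j κ' + j κ * j μ' * X + j μ * (X * j κ') + j μ * (X * j μ') * X := by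
              noncomm_ring
          _ = j (κ * κ') + j (κ * μ') * X + j (μ * κ') * X + j (μ * μ') * (X * X) := by
              rw [hXj, hXj]; simp only [map_mul]; noncomm_ring
          _ = _ := by rw [hX2]; simp only [map_add, map_mul]; noncomm_ring
      one_mem' := ⟨1, 0, by simp⟩
      add_mem' := by
        rintro _ _ ⟨κ, μ, rfl⟩ ⟨κ', μ', rfl⟩
        exact ⟨κ + κ', μ + μ', by simp only [map_add]; noncomm_ring⟩
      zero_mem' := ⟨0, 0, by simp⟩
      neg_mem' := by
        rintro _ ⟨κ, μ, rfl⟩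
        exact ⟨-κ, -μ, by simp only [map_neg]; noncomm_ring⟩ }
  have hcomm : ∀ p q : L, p * q = q * p := by
    rintro ⟨_, κ, μ, rfl⟩ ⟨_, κ', μ', rfl⟩
    apply Subtype.ext
    show (j κ + j μ * X) * (j κ' + j μ' * X) = (j κ' + j μ' * X) * (j κ + j μ * X)
    have hjc : ∀ p q : K, j p * j q = j q * j p := fun p q => by rw [← map_mul, mul_comm, map_mul]
    calc (j κ + j μ * X) * (j κ' + j μ' * X)
        = j κ * j κ' + j κ * j μ' * X + j μ * (X * j κ') + j μ * (X * j μ') * X := by noncomm_ring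
      _ = j κ * j κ' + j κ * j μ' * X + j μ * j κ' * X + j μ * j μ' * (X * X) := by
          rw [hXj, hXj]; noncomm_ring
      _ = j κ' * j κ + j μ' * j κ * X + j κ' * j μ * X + j μ' * j μ * (X * X) := by
          rw [hjc κ κ', hjc κ μ', hjc μ κ', hjc μ μ']
      _ = j κ' * j κ + j κ' * j μ * X + j μ' * (X * j κ) + j μ' * (X * j μ) * X := by
          rw [hXj, hXj]; noncomm_ring
      _ = _ := by noncomm_ring
  let _ : CommRing L := { (inferInstance : Ring L) with mul_comm := hcomm }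
  have hinv : ∀ p : L, p ≠ 0 → ∃ q : L, p * q = 1 := by
    rintro ⟨_, κ, μ, rfl⟩ hp
    by_cases hμ : μ = 0
    · subst hμ
      have hκ : κ ≠ 0 := by rintro rfl; exact hp (Subtype.ext (by simp))
      exact ⟨⟨j κ⁻¹, κ⁻¹, 0, by simp⟩, Subtype.ext (by
        show (j κ + j 0 * X) * j κ⁻¹ = 1
        simp [← map_mul, hκ])⟩
    · have hd : κ * κ + κ * μ * C + μ * μ * N ≠ 0 := by
        intro e
        refine hroot (κ / μ) ?_
        field_simp
        linear_combination e
      have hX2 : X * X = j C * X + j N := h.eq_of_add_eq_zero (by rw [← add_assoc]; exact hq)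
      have e : (j κ + j μ * X) * (j (κ + μ * C) + j μ * X) =
          j (κ * κ + κ * μ * C + μ * μ * N) := by
        have e2 : j κ * j μ * X + j μ * j κ * X = 0 := by
          rw [← map_mul, ← map_mul, mul_comm μ κ, h.add_self]
        have e3 : j μ * j μ * j C * X + j μ * j μ * j C * X = 0 := h.add_self _
        calc (j κ + j μ * X) * (j (κ + μ * C) + j μ * X)
            = j κ * j (κ + μ * C) + j κ * j μ * X + j μ * (X * j (κ + μ * C)) +
              j μ * (X * j μ) * X := by noncomm_ring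
          _ = j κ * j κ + j κ * (j μ * j C) + j μ * j μ * j N +
              (j κ * j μ * X + j μ * j κ * X) +
              (j μ * j μ * j C * X + j μ * j μ * j C * X) := by
              rw [hXj, hXj, mul_assoc (j μ) (j μ * X) X, mul_assoc (j μ) X X, hX2, map_add,
                map_mul]
              noncomm_ring
          _ = _ := by rw [e2, e3]; simp only [map_add, map_mul]; noncomm_ring
      refine ⟨⟨(j (κ + μ * C) + j μ * X) * j (κ * κ + κ * μ * C + μ * μ * N)⁻¹,
        L.mul_mem ⟨_, _, rfl⟩ ⟨(κ * κ + κ * μ * C + μ * μ * N)⁻¹, 0, by simp⟩⟩, Subtype.ext ?_⟩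
      show (j κ + j μ * X) * ((j (κ + μ * C) + j μ * X) * j _⁻¹) = 1
      rw [← mul_assoc, e, ← map_mul, mul_inv_cancel₀ hd, map_one]
  let _ : Nontrivial L := ⟨1, 0, fun e => one_ne_zero (congrArg Subtype.val e : (1 : AddMonoid.End V) = 0)⟩
  let _ : Field L := (IsField.mk ⟨0, 1, zero_ne_one⟩ hcomm (fun {p} hp => hinv p hp)).toField
  let jL : L →+* AddMonoid.End V := L.subtype
  -- `x` is a unit
  have hb : b ≠ 0 := fun e => ha (by rw [← P.twist_ab, e, map_zero])
  set xi : AddMonoid.End V := y * j a⁻¹ with hxi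
  have hxxi : x * xi = 1 := by rw [hxi, ← mul_assoc, P.xy, ← map_mul, mul_inv_cancel₀ ha, map_one]
  have hxix : xi * x = 1 := mul_eq_one_comm.1 hxxi
  have hy : y = xi * j a := by
    calc y = xi * x * y := by rw [hxix, one_mul]
      _ = _ := by rw [mul_assoc, P.xy]
  have hXC : X * j C = j C * X := hXj C
  have hxX : x * X = X * x := (Commute.self_pow x m)
  have hf_mem : ∀ p : L, x * p.1 * xi ∈ L := by
    rintro ⟨_, κ, μ, rfl⟩
    refine ⟨ρ κ, ρ μ, ?_⟩
    calc x * (j κ + j μ * X) * xi = x * j κ * xi + x * j μ * X * xi := by noncomm_ring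
      _ = j (ρ κ) * (x * xi) + j (ρ μ) * (x * X) * xi := by rw [P.twx, P.twx]; noncomm_ring
      _ = j (ρ κ) * (x * xi) + j (ρ μ) * X * (x * xi) := by rw [hxX]; noncomm_ring
      _ = _ := by rw [hxxi]; noncomm_ring
  let φ : L →+* L :=
    { toFun := fun p => ⟨x * p.1 * xi, hf_mem p⟩
      map_one' := Subtype.ext (by
        show x * (1 : AddMonoid.End V) * xi = 1
        rw [mul_one, hxxi])
      map_mul' := fun p q => Subtype.ext (by
        show x * (p.1 * q.1) * xi = x * p.1 * xi * (x * q.1 * xi)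
        calc x * (p.1 * q.1) * xi = x * p.1 * (xi * x) * q.1 * xi := by
              rw [hxix]; noncomm_ring
          _ = _ := by noncomm_ring)
      map_zero' := Subtype.ext (by
        show x * (0 : AddMonoid.End V) * xi = 0
        simp)
      map_add' := fun p q => Subtype.ext (by
        show x * (p.1 + q.1) * xi = x * p.1 * xi + x * q.1 * xi
        noncomm_ring) }
  let ψ : L ≃+* L := RingEquiv.ofBijective φ (Finite.injective_iff_bijective.1 φ.injective)
  have hψ : ∀ p : L, x * jL p = jL (ψ p) * x := fun p => by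
    show x * p.1 = x * p.1 * xi * x
    rw [mul_assoc, hxix, mul_one]
  have hψi : ∀ (i : ℕ) (p : L), x ^ i * jL p = jL ((ψ ^ i) p) * x ^ i := by
    intro i
    induction i with
    | zero => intro p; simp
    | succ i ih =>
      intro p
      rw [pow_succ', mul_assoc, ih, ← mul_assoc, hψ, mul_assoc, pow_succ' ψ, RingAut.mul_apply]
  have hxu : IsUnit x := IsUnit.of_mul_eq_one xi hxxi
  have hψm : ψ ^ m = 1 := by
    refine RingEquiv.ext fun p => Subtype.ext ?_
    have e : X * p.1 = p.1 * X := congrArg Subtype.val (hcomm ⟨X, 0, 1, by simp⟩ p)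
    have h1 := hψi m p
    exact (hxu.pow m).mul_right_cancel (show ((ψ ^ m) p).1 * X = p.1 * X from h1.symm.trans e)
  have hψne : ∀ i, i < m → i ≠ 0 → ψ ^ i ≠ 1 := by
    intro i hi hi0 e
    refine pow_ne_one_of_lt_orderOf hi0 hi (AlgEquiv.ext fun k => hjinj ?_)
    have h1 := hψi i ⟨j k, k, 0, by simp⟩
    rw [e] at h1
    have h2 := P.twx.pow i k
    exact (hxu.pow i).mul_right_cancel (h2.symm.trans h1)
  let cX : L := ⟨X, 0, 1, by simp⟩
  have hcX : cX ≠ 0 := fun e => (hxu.pow m).ne_zero (congrArg Subtype.val e)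
  have hψX : ψ cX = cX := Subtype.ext (by
    show x * X * xi = X
    rw [hxX, mul_assoc, hxxi, mul_one])
  obtain ⟨v₀, hv₀⟩ : ∃ v : V, v ≠ 0 := by
    by_contra! hall
    exact P.x_ne (AddMonoidHom.ext fun v => (hall _).trans (hall _).symm)
  obtain ⟨v, l, hv, hl, hxv⟩ :=
    exists_fixed_line jL ψ m (by omega) hψm hψne x hψ cX hcX hψX v₀ hv₀ rfl
  -- the line of `v` is invariant
  let U : Set V := Set.range fun p : L => jL p v
  have hUadd : ∀ u ∈ U, ∀ u' ∈ U, u + u' ∈ U := by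
    rintro _ ⟨p, rfl⟩ _ ⟨q, rfl⟩; exact ⟨p + q, (congrArg (fun z : AddMonoid.End V => z v) (map_add jL p q)).trans rfl⟩
  have hUK : ∀ k, ∀ u ∈ U, j k u ∈ U := by
    rintro k _ ⟨p, rfl⟩
    exact ⟨⟨j k, k, 0, by simp⟩ * p, rfl⟩
  have hUx : ∀ u ∈ U, x u ∈ U := by
    rintro _ ⟨p, rfl⟩
    refine ⟨ψ p * l, ?_⟩
    show (jL (ψ p * l)) v = x (jL p v)
    have e := DFunLike.congr_fun (hψ p) v
    rw [map_mul]
    show jL (ψ p) (jL l v) = _
    rw [← hxv]
    exact e.symm
  have hxiU : ∀ u ∈ U, xi u ∈ U := by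
    rintro _ ⟨p, rfl⟩
    refine ⟨ψ.symm (p * l⁻¹), ?_⟩
    have e : x (jL (ψ.symm (p * l⁻¹)) v) = jL p v := by
      have e := DFunLike.congr_fun (hψ (ψ.symm (p * l⁻¹))) v
      rw [show (x * jL (ψ.symm (p * l⁻¹))) v = x (jL (ψ.symm (p * l⁻¹)) v) from rfl] at e
      rw [e, ψ.apply_symm_apply]
      show jL (p * l⁻¹) (x v) = _
      rw [hxv]
      show (jL (p * l⁻¹) * jL l) v = _
      rw [← map_mul, mul_assoc, inv_mul_cancel₀ hl, mul_one]
    show jL (ψ.symm (p * l⁻¹)) v = xi (jL p v)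
    rw [← e]
    exact (DFunLike.congr_fun hxix _).symm
  have hUy : ∀ u ∈ U, y u ∈ U := fun u hu => by rw [hy]; exact hxiU _ (hUK a u hu)
  have hvU : v ∈ U := ⟨1, rfl⟩
  let T : K × K → AddMonoid.End V := fun p => j p.1 + j p.2 * x + j (ρ⁻¹ p.2) * y
  let Φ : K × K → U := fun p => ⟨T p v,
    hUadd _ (hUadd _ (hUK p.1 v hvU) _ (hUK p.2 _ (hUx v hvU))) _
      (hUK (ρ⁻¹ p.2) _ (hUy v hvU))⟩
  have hΦ : Function.Injective Φ := by
    intro p q hpq
    have hS := P.mem (p.1 - q.1) (p.2 - q.2)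
    have e : j (p.1 - q.1) + j (p.2 - q.2) * x + j (ρ⁻¹ (p.2 - q.2)) * y = T p - T q := by
      simp only [T, map_sub]; noncomm_ring
    rw [e] at hS
    have e1 : (T p - T q) v = 0 := by
      show T p v - T q v = 0
      rw [sub_eq_zero]; exact congrArg Subtype.val hpq
    obtain ⟨h1, h2⟩ := P.inj D (by rw [e]; exact h.eq_zero_of_apply hS hv e1)
    exact Prod.ext (sub_eq_zero.1 h1) (sub_eq_zero.1 h2)
  have hcard : Nat.card U ≤ Nat.card (K × K) := by
    refine Nat.card_le_card_of_surjective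
      (fun p : K × K => (⟨(j p.1 + j p.2 * X) v, ⟨⟨_, p.1, p.2, rfl⟩, rfl⟩⟩ : U)) ?_
    rintro ⟨_, ⟨⟨_, κ, μ, rfl⟩, rfl⟩⟩
    exact ⟨(κ, μ), rfl⟩
  have hbij : Function.Bijective Φ :=
    (Nat.bijective_iff_injective_and_card Φ).2
      ⟨hΦ, le_antisymm (Nat.card_le_card_of_injective Φ hΦ) hcard⟩
  have hsS : x + y ∈ S := by simpa using P.mem 0 1
  have hssU : ((x + y) * (x + y)) v ∈ U :=
    hUadd _ (hUx _ (hUadd _ (hUx v hvU) _ (hUy v hvU))) _ (hUy _ (hUadd _ (hUx v hvU) _ (hUy v hvU)))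
  obtain ⟨⟨κ, μ⟩, hκμ⟩ := hbij.2 ⟨_, hssU⟩
  have hss : (x + y) * (x + y) = T (κ, μ) := by
    have h2 := h.pow_mem hsS 2
    rw [sq] at h2
    have e1 : ((x + y) * (x + y) - T (κ, μ)) v = 0 := by
      show ((x + y) * (x + y)) v - T (κ, μ) v = 0
      rw [sub_eq_zero]; exact (congrArg Subtype.val hκμ).symm
    exact sub_eq_zero.1 (h.eq_zero_of_apply (S.sub_mem h2 (P.mem κ μ)) hv e1)
  have hord : ∀ i, i < m → i ≠ 0 → ρ ^ i ≠ 1 := fun i hi hi0 => pow_ne_one_of_lt_orderOf hi0 hi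
  have hρ4 : (ρ * ρ) ≠ ρ⁻¹ * ρ⁻¹ := fun e => by
    have e4 : ρ ^ 4 = 1 := by
      calc ρ ^ 4 = (ρ * ρ) * (ρ * ρ) := by simp [pow_succ, mul_assoc]
        _ = 1 := by nth_rw 1 [e]; simp [mul_assoc]
    have h4 := orderOf_dvd_of_pow_eq_one e4
    rw [← hm] at h4
    have := Nat.le_of_dvd (by norm_num) h4
    interval_cases m <;> omega
  have hL : proj j e f (ρ * ρ) ((x + y) * (x + y)) = x * x := by
    have e1 : (x + y) * (x + y) = x * x + x * y + y * x + y * y := by noncomm_ring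
    rw [e1, P.xy, P.yx, map_add, map_add, map_add, proj_self D (P.twx.mul P.twx),
      proj_of_ne D (tw_coe a) P.sq_ne, proj_of_ne D (tw_coe b) P.sq_ne,
      proj_of_ne D (P.twy.mul P.twy) hρ4, add_zero, add_zero, add_zero]
  have hρρ : ρ * ρ ≠ ρ := fun e => P.ne_one (mul_eq_left.1 e)
  rw [hss] at hL
  simp only [T] at hL
  rw [map_add, map_add, proj_of_ne D (tw_coe κ) P.sq_ne,
    proj_of_ne D (P.twx.coe_mul μ) hρρ, zero_add, zero_add] at hL
  by_cases h3 : ρ * ρ = ρ⁻¹
  · rw [h3, proj_self D (P.twy.coe_mul _)] at hL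
    have hm' : m = 3 := by
      have : ρ ^ 3 = 1 := by
        calc ρ ^ 3 = (ρ * ρ) * ρ := by simp [pow_succ]
          _ = 1 := by rw [h3, inv_mul_cancel]
      have hd := orderOf_dvd_of_pow_eq_one this
      rw [← hm] at hd
      have := Nat.le_of_dvd (by norm_num) hd
      omega
    have hXval : X = j (ρ⁻¹ μ * b) := by
      rw [hX, hm', pow_succ, sq, ← hL, mul_assoc, P.yx, map_mul]
    refine hroot (ρ⁻¹ μ * b) (hjinj ?_)
    rw [map_zero, ← hq, hXval]
    simp only [map_add, map_mul]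
  · rw [proj_of_ne D (P.twy.coe_mul _) h3] at hL
    exact (hxu.mul hxu).ne_zero hL.symm

end Cfsg.Lib.TISpecial
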