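import Mathlib
import Cfsg.Agent.Coprime.SolvableBasics

/-!
# A trivial-intersection elementary abelian subgroup: basic structure
-/

set_option autoImplicit false
set_option linter.unusedSectionVars false

namespace Cfsg.Lib.TISpecial

variable {G : Type*} [Group G] [Finite G]

/-- The conjugate of a subgroup. -/
abbrev cj (x : G) (U : Subgroup G) : Subgroup G := U.map (MulAut.conj x).toMonoidHom

/-- The commutator `a b a⁻¹ b⁻¹`. -/
def cm (a b : G) : G := a * b * a⁻¹ * b⁻¹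

theorem mem_cj {x y : G} {U : Subgroup G} : y ∈ cj x U ↔ x⁻¹ * y * x ∈ U := by
  constructor
  · rintro ⟨u, hu, rfl⟩
    simpa [mul_assoc] using hu
  · intro h
    exact ⟨_, h, by simp [mul_assoc]⟩

theorem conj_mem_cj {x u : G} {U : Subgroup G} (h : u ∈ U) : x * u * x⁻¹ ∈ cj x U :=
  mem_cj.2 (by simpa [mul_assoc] using h)

theorem cj_mul (x y : G) (U : Subgroup G) : cj (x * y) U = cj x (cj y U) := by
  ext z
  simp only [mem_cj, mul_inv_rev, mul_assoc]

theorem cj_one (U : Subgroup G) : cj (1 : G) U = U := by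
  ext z; simp [mem_cj]

theorem card_cj (x : G) (U : Subgroup G) : Nat.card (cj x U) = Nat.card U :=
  Subgroup.card_map_of_injective (MulAut.conj x).injective

theorem cj_le_cj {x : G} {U W : Subgroup G} (h : U ≤ W) : cj x U ≤ cj x W := Subgroup.map_mono h

theorem mem_normalizer_iff_cj {x : G} {U : Subgroup G} :
    x ∈ Subgroup.normalizer (U : Set G) ↔ cj x U = U := by
  rw [Subgroup.mem_normalizer_iff]
  constructor
  · intro h
    refine Subgroup.eq_of_le_of_card_ge ?_ (card_cj x U).ge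
    intro z hz
    rw [mem_cj] at hz
    have := (h _).1 hz
    simpa [mul_assoc] using this
  · intro h u
    rw [← SetLike.mem_coe, SetLike.mem_coe]
    constructor
    · intro hu; rw [← h]; exact conj_mem_cj hu
    · intro hu; rw [← h, mem_cj] at hu; simpa [mul_assoc] using hu

theorem cm_eq_one {a b : G} : cm a b = 1 ↔ a * b = b * a := by
  rw [cm, mul_inv_eq_one, mul_inv_eq_iff_eq_mul]

theorem cm_inv (a b : G) : (cm a b)⁻¹ = cm b a := by simp [cm, mul_assoc]

theorem cm_mul (a b : G) : cm a b * b = a * b * a⁻¹ := by simp [cm, mul_assoc]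

theorem cm_mul_left (a b y : G) : cm (a * b) y = a * cm b y * a⁻¹ * cm a y := by
  simp [cm, mul_assoc]

theorem cm_mul_right (a y z : G) : cm a (y * z) = cm a y * (y * cm a z * y⁻¹) := by
  simp [cm, mul_assoc]

theorem conj_cm (x a b : G) : x * cm a b * x⁻¹ = cm (x * a * x⁻¹) (x * b * x⁻¹) := by
  simp [cm, mul_assoc]

/-- The hypotheses: `V` is elementary abelian, with trivial intersection with its conjugates,
self-centralizing among abelian normal subgroups of its normalizer, whose `2`-core `Q` contains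
its centralizer. -/
structure Setting (V Q : Subgroup G) : Prop where
  comm : ∀ a ∈ V, ∀ b ∈ V, a * b = b * a
  sq : ∀ a ∈ V, a * a = 1
  ne_bot : V ≠ ⊥
  le_Q : V ≤ Q
  Q_le : Q ≤ Subgroup.normalizer (V : Set G)
  Q_norm : ∀ m ∈ Subgroup.normalizer (V : Set G), ∀ x ∈ Q, m * x * m⁻¹ ∈ Q
  Q_two : IsPGroup 2 Q
  Q_max : ∀ N : Subgroup G, N ≤ Subgroup.normalizer (V : Set G) → IsPGroup 2 N →
    (∀ m ∈ Subgroup.normalizer (V : Set G), ∀ x ∈ N, m * x * m⁻¹ ∈ N) → N ≤ Q
  Q_cent : ∀ m ∈ Subgroup.normalizer (V : Set G), (∀ x ∈ Q, m * x = x * m) → m ∈ Q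
  max_abelian : ∀ A : Subgroup G, V ≤ A → A ≤ Subgroup.normalizer (V : Set G) →
    (∀ a ∈ A, ∀ b ∈ A, a * b = b * a) →
    (∀ m ∈ Subgroup.normalizer (V : Set G), ∀ a ∈ A, m * a * m⁻¹ ∈ A) → A = V
  ti : ∀ x : G, cj x V = V ∨ cj x V ⊓ V = ⊥

variable {V Q : Subgroup G}

/-- The centralizer of `V` in `Q`. -/
abbrev pp (V Q : Subgroup G) : Subgroup G := Q ⊓ Subgroup.centralizer (V : Set G)

/-- The centralizer of `U` in `pp V Q`. -/
abbrev ee (V Q U : Subgroup G) : Subgroup G := pp V Q ⊓ Subgroup.centralizer (U : Set G)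

/-- The other conjugates of `V` lying in `Q`. -/
def IsComp (V Q U : Subgroup G) : Prop := (∃ x : G, U = cj x V) ∧ U ≤ Q ∧ U ≠ V

variable (s : Setting V Q)
include s

theorem Setting.conj_comm {U : Subgroup G} (hU : ∃ x, U = cj x V) :
    (∀ a ∈ U, ∀ b ∈ U, a * b = b * a) ∧ (∀ a ∈ U, a * a = 1) := by
  obtain ⟨x, rfl⟩ := hU
  refine ⟨?_, ?_⟩
  · rintro _ ⟨a, ha, rfl⟩ _ ⟨b, hb, rfl⟩
    rw [← map_mul, ← map_mul, s.comm a ha b hb]
  · rintro _ ⟨a, ha, rfl⟩
    rw [← map_mul, s.sq a ha, map_one]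

theorem Setting.inv_eq {a : G} (ha : a ∈ V) : a⁻¹ = a := inv_eq_of_mul_eq_one_right (s.sq a ha)

theorem Setting.eq_of_mem {A B : Subgroup G} (hA : ∃ x, A = cj x V) (hB : ∃ x, B = cj x V)
    {a : G} (ha : a ∈ A) (hb : a ∈ B) (hne : a ≠ 1) : A = B := by
  obtain ⟨x, rfl⟩ := hA
  obtain ⟨y, rfl⟩ := hB
  rcases s.ti (y⁻¹ * x) with h | h
  · calc cj x V = cj y (cj (y⁻¹ * x) V) := by rw [← cj_mul, mul_inv_cancel_left]
      _ = _ := by rw [h]
  · exfalso
    refine hne ?_
    have h1 : y⁻¹ * a * y ∈ cj (y⁻¹ * x) V ⊓ V :=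
      ⟨mem_cj.2 (by simpa [mul_assoc] using mem_cj.1 ha), mem_cj.1 hb⟩
    rw [h, Subgroup.mem_bot] at h1
    simpa [mul_assoc, mul_inv_eq_one, inv_mul_eq_one] using h1

theorem Setting.self_conj : ∃ x : G, V = cj x V := ⟨1, (cj_one V).symm⟩

theorem Setting.comm_of_normalizes {A B : Subgroup G} (hA : ∃ x, A = cj x V)
    (hB : ∃ x, B = cj x V) (hne : A ≠ B) (hn : ∀ b ∈ B, ∀ a ∈ A, b * a * b⁻¹ ∈ A) :
    ∀ a ∈ A, ∀ b ∈ B, a * b = b * a := by
  obtain ⟨cA, sA⟩ := s.conj_comm hA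
  obtain ⟨cB, sB⟩ := s.conj_comm hB
  have hcA : ∀ a ∈ A, ∀ b ∈ B, b ≠ 1 → a * b = b * a → ∀ b' ∈ B, a * b' = b' * a := by
    intro a ha b hb hb1 hab b' hb'
    have e : cj a B = B := by
      obtain ⟨y, hy⟩ := hB
      refine s.eq_of_mem ⟨a * y, by rw [hy, cj_mul]⟩ ⟨y, hy⟩ (a := b) ?_ hb hb1
      rw [mem_cj, mul_assoc, ← hab, ← mul_assoc, inv_mul_cancel, one_mul]
      exact hb
    have h1 : cm a b' ∈ B := by
      have : a * b' * a⁻¹ ∈ B := e ▸ conj_mem_cj hb'
      exact B.mul_mem this (B.inv_mem hb')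
    have h2 : cm a b' ∈ A := by
      have : b' * a⁻¹ * b'⁻¹ ∈ A := hn b' hb' _ (A.inv_mem ha)
      have := A.mul_mem ha this
      simpa [cm, mul_assoc] using this
    rw [← cm_eq_one]
    by_contra h3
    exact hne (s.eq_of_mem hA hB h2 h1 h3)
  by_contra! hbad
  obtain ⟨a, ha, b₀, hb₀, hab⟩ := hbad
  have hf : ∀ b ∈ B, cm a b ∈ A := fun b hb => by
    have := A.mul_mem ha (hn b hb _ (A.inv_mem ha))
    simpa [cm, mul_assoc] using this
  have hfix : ∀ b ∈ B, b * cm a b = cm a b * b := fun b hb => by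
    have e1 : b * cm a b * b⁻¹ = (cm a b)⁻¹ := by
      have ha1 : a⁻¹ = a := inv_eq_of_mul_eq_one_right (sA a ha)
      have hb1 : b⁻¹ = b := inv_eq_of_mul_eq_one_right (sB b hb)
      simp [cm, ha1, hb1, mul_assoc, sB b hb]
    rw [inv_eq_of_mul_eq_one_right (sA _ (hf b hb))] at e1
    exact mul_inv_eq_iff_eq_mul.1 e1
  have hA0 : ∀ b ∈ B, ∀ b' ∈ B, cm a b * b' = b' * cm a b := by
    intro b hb b' hb'
    by_cases h1 : b = 1
    · subst h1; simp [cm]
    · exact hcA _ (hf b hb) b hb h1 (hfix b hb).symm b' hb'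
  let f : B → A := fun b => ⟨cm a b, hf b b.2⟩
  have hinj : Function.Injective f := by
    intro b b' e
    have e' : cm a b = cm a b' := congrArg Subtype.val e
    have hmul : cm a ((b : G) * b') = cm a b * cm a b' := by
      rw [cm_mul_right, ← hA0 b' b'.2 b b.2, mul_inv_cancel_right]
    have h1 : cm a ((b : G) * b') = 1 := by rw [hmul, e', sA _ (hf b' b'.2)]
    by_contra hbb
    have hbb' : (b : G) * b' ≠ 1 := fun e2 => hbb (Subtype.ext (by
      rw [mul_eq_one_iff_eq_inv.1 e2, inv_eq_of_mul_eq_one_right (sB _ b'.2)]))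
    exact hab (hcA a ha _ (B.mul_mem b.2 b'.2) hbb' (cm_eq_one.1 h1) b₀ hb₀)
  obtain ⟨x, rfl⟩ := hA
  obtain ⟨y, rfl⟩ := hB
  have hbij : Function.Bijective f :=
    (Nat.bijective_iff_injective_and_card f).2 ⟨hinj, by rw [card_cj, card_cj]⟩
  obtain ⟨b, hb⟩ := hbij.2 ⟨a, ha⟩
  apply hab
  have e : cm a (b : G) = a := congrArg Subtype.val hb
  rw [← e]
  exact hA0 b b.2 b₀ hb₀

theorem Setting.V_le_pp : V ≤ pp V Q :=
  le_inf s.le_Q fun a ha => Subgroup.mem_centralizer_iff.2 fun b hb => s.comm b hb a ha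

theorem Setting.pp_comm {p v : G} (hp : p ∈ pp V Q) (hv : v ∈ V) : p * v = v * p :=
  (Subgroup.mem_centralizer_iff.1 hp.2 v hv).symm

theorem Setting.le_normalizer_pp : pp V Q ≤ Subgroup.normalizer (V : Set G) :=
  inf_le_left.trans s.Q_le

theorem Setting.comp_le_pp {U : Subgroup G} (hU : IsComp V Q U) : U ≤ pp V Q := by
  refine le_inf hU.2.1 fun u hu => Subgroup.mem_centralizer_iff.2 fun v hv => ?_
  refine s.comm_of_normalizes s.self_conj hU.1 hU.2.2.symm (fun b hb a ha => ?_) v hv u hu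
  exact (Subgroup.mem_normalizer_iff.1 (s.Q_le (hU.2.1 hb)) a).1 ha

theorem Setting.pp_normal {m : G} (hm : m ∈ Subgroup.normalizer (V : Set G)) {p : G}
    (hp : p ∈ pp V Q) : m * p * m⁻¹ ∈ pp V Q := by
  refine ⟨s.Q_norm m hm p hp.1, Subgroup.mem_centralizer_iff.2 fun v hv => ?_⟩
  have hv' : m⁻¹ * v * m ∈ V := by
    have := (Subgroup.mem_normalizer_iff.1 (inv_mem hm) v).1 hv
    simpa using this
  have e : p * (m⁻¹ * v * m) = m⁻¹ * v * m * p := s.pp_comm hp hv'
  calc v * (m * p * m⁻¹) = m * (m⁻¹ * v * m * p) * m⁻¹ := by group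
    _ = _ := by rw [← e]; group

theorem Setting.V_le_normalizer : V ≤ Subgroup.normalizer (V : Set G) :=
  s.le_Q.trans s.Q_le

theorem Setting.V_normal {m : G} (hm : m ∈ Subgroup.normalizer (V : Set G)) {v : G}
    (hv : v ∈ V) : m * v * m⁻¹ ∈ V :=
  (Subgroup.mem_normalizer_iff.1 hm v).1 hv

theorem Setting.conj_eq {p v : G} (hp : p ∈ pp V Q) (hv : v ∈ V) : p * v * p⁻¹ = v := by
  rw [s.pp_comm hp hv, mul_inv_cancel_right]

theorem Setting.mem_V_of_central {z : G} (hz : z ∈ pp V Q)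
    (hc : ∀ p ∈ pp V Q, z * p = p * z) : z ∈ V := by
  let A : Subgroup G := pp V Q ⊓ Subgroup.centralizer (pp V Q : Set G)
  have hA : A = V := by
    refine s.max_abelian A (le_inf s.V_le_pp fun v hv => Subgroup.mem_centralizer_iff.2
      fun p hp => s.pp_comm hp hv) (inf_le_left.trans s.le_normalizer_pp)
      (fun a ha b hb => (Subgroup.mem_centralizer_iff.1 ha.2 b hb.1).symm) (fun m hm a ha => ?_)
    refine ⟨s.pp_normal hm ha.1, Subgroup.mem_centralizer_iff.2 fun p hp => ?_⟩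
    have hp' := s.pp_normal (inv_mem hm) hp
    have e := Subgroup.mem_centralizer_iff.1 ha.2 _ hp'
    calc p * (m * a * m⁻¹) = m * (m⁻¹ * p * m⁻¹⁻¹ * a) * m⁻¹ := by group
      _ = _ := by rw [e]; group
  rw [← hA]
  exact ⟨hz, Subgroup.mem_centralizer_iff.2 fun p hp => (hc p hp).symm⟩

theorem Setting.commutator_mem {a b : G} (ha : a ∈ pp V Q) (hb : b ∈ pp V Q) :
    cm a b ∈ V ∧ a * a ∈ V := by
  let P := pp V Q
  let Y : Subgroup G :=
    { carrier := {y | y ∈ P ∧ ∀ p ∈ P, cm p y ∈ V}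
      one_mem' := ⟨one_mem _, fun p _ => by simp [cm]⟩
      mul_mem' := fun {y z} hy hz => ⟨P.mul_mem hy.1 hz.1, fun p hp => by
        rw [cm_mul_right, s.conj_eq hy.1 (hz.2 p hp)]
        exact V.mul_mem (hy.2 p hp) (hz.2 p hp)⟩
      inv_mem' := fun {y} hy => ⟨P.inv_mem hy.1, fun p hp => by
        have h1 : cm p (y * y⁻¹) = cm p y * (y * cm p y⁻¹ * y⁻¹) := cm_mul_right p y y⁻¹
        have h2 : y * cm p y⁻¹ * y⁻¹ ∈ V := by
          have : y * cm p y⁻¹ * y⁻¹ = (cm p y)⁻¹ := by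
            refine eq_inv_of_mul_eq_one_right ?_
            rw [← h1]; simp [cm]
          rw [this]; exact V.inv_mem (hy.2 p hp)
        have h3 := s.V_normal (inv_mem (s.le_normalizer_pp hy.1)) h2
        simpa [mul_assoc] using h3⟩ }
  have hY : ∀ y, y ∈ Y ↔ y ∈ P ∧ ∀ p ∈ P, cm p y ∈ V := fun y => Iff.rfl
  have hVY : V ≤ Y := fun v hv => ⟨s.V_le_pp hv, fun p hp => by
    rw [cm_eq_one.2 (s.pp_comm hp hv)]; exact one_mem V⟩
  have hYn : ∀ m ∈ Subgroup.normalizer (V : Set G), ∀ y ∈ Y, m * y * m⁻¹ ∈ Y := by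
    intro m hm y hy
    refine ⟨s.pp_normal hm hy.1, fun p hp => ?_⟩
    have hp' := s.pp_normal (inv_mem hm) hp
    have e : cm p (m * y * m⁻¹) = m * cm (m⁻¹ * p * m⁻¹⁻¹) y * m⁻¹ := by
      rw [conj_cm]; congr 1; group
    rw [e]; exact s.V_normal hm (hy.2 _ hp')
  -- elements of `P` centralizing `Y` lie in `V`
  have hcent : ∀ c ∈ P, (∀ y ∈ Y, c * y = y * c) → c ∈ V := by
    let C : Subgroup G := P ⊓ Subgroup.centralizer (Y : Set G)
    suffices h : C ≤ V from fun c hc h1 =>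
      h ⟨hc, Subgroup.mem_centralizer_iff.2 fun y hy => (h1 y hy).symm⟩
    have hCY : ∀ c ∈ C, c ∈ Y → c ∈ V := by
      intro c hc hcY
      have hAb : C ⊓ Y = V := by
        refine s.max_abelian _ (fun v hv => ⟨⟨s.V_le_pp hv, Subgroup.mem_centralizer_iff.2
          fun y hy => s.pp_comm hy.1 hv⟩, hVY hv⟩) (fun x hx => s.le_normalizer_pp hx.1.1)
          (fun a ha b hb => (Subgroup.mem_centralizer_iff.1 ha.1.2 b hb.2).symm)
          (fun m hm a ha => ⟨⟨s.pp_normal hm ha.1.1, Subgroup.mem_centralizer_iff.2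
            fun y hy => ?_⟩, hYn m hm a ha.2⟩)
        have e := Subgroup.mem_centralizer_iff.1 ha.1.2 _ (hYn _ (inv_mem hm) y hy)
        calc y * (m * a * m⁻¹) = m * (m⁻¹ * y * m⁻¹⁻¹ * a) * m⁻¹ := by group
          _ = _ := by rw [e]; group
      rw [← hAb]; exact ⟨hc, hcY⟩
    have : Fact (Nat.Prime 2) := ⟨Nat.prime_two⟩
    have hnil : Group.IsNilpotent P := (s.Q_two.to_le inf_le_left).isNilpotent
    obtain ⟨n, hn⟩ := hnil.nilpotent
    have key : ∀ k, ∀ c : P, c ∈ Subgroup.upperCentralSeries P k → (c : G) ∈ C → (c : G) ∈ V := by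
      intro k
      induction k with
      | zero =>
        intro c hc _
        rw [Subgroup.upperCentralSeries_zero, Subgroup.mem_bot] at hc
        subst hc; exact one_mem V
      | succ k ih =>
        intro c hc hcC
        refine hCY _ hcC ⟨c.2, fun p hp => ?_⟩
        have h1 := Subgroup.mem_upperCentralSeries_succ_iff.1 hc ⟨p, hp⟩
        have h1' : (c * ⟨p, hp⟩ * c⁻¹ * (⟨p, hp⟩ : P)⁻¹ : P) ∈ Subgroup.upperCentralSeries P k := h1
        have h2 : cm (c : G) p ∈ C := by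
          refine ⟨P.mul_mem (P.mul_mem (P.mul_mem c.2 hp) (P.inv_mem c.2)) (P.inv_mem hp), ?_⟩
          have hpn : ∀ z ∈ Subgroup.centralizer (Y : Set G), p * z * p⁻¹ ∈ Subgroup.centralizer (Y : Set G) := by
            intro z hz
            refine Subgroup.mem_centralizer_iff.2 fun y hy => ?_
            have e := Subgroup.mem_centralizer_iff.1 hz _ (hYn _ (inv_mem (s.le_normalizer_pp hp)) y hy)
            calc y * (p * z * p⁻¹) = p * (p⁻¹ * y * p⁻¹⁻¹ * z) * p⁻¹ := by group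
              _ = _ := by rw [e]; group
          have := (Subgroup.centralizer (Y : Set G)).mul_mem hcC.2 (hpn _ (Subgroup.inv_mem _ hcC.2))
          simpa [cm, mul_assoc] using this
        have := ih _ h1' h2
        rw [← cm_inv]
        exact V.inv_mem this
    intro c hc
    exact key n ⟨c, hc.1⟩ (by rw [hn]; trivial) hc
  have hhom : ∀ p ∈ P, ∀ q ∈ P, ∀ y ∈ Y, cm (p * q) y = cm q y * cm p y := by
    intro p hp q hq y hy
    rw [cm_mul_left, s.conj_eq hp (hy.2 q hq)]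
  refine ⟨hcent _ ?_ fun y hy => ?_, hcent _ (P.mul_mem ha ha) fun y hy => ?_⟩
  · exact P.mul_mem (P.mul_mem (P.mul_mem ha hb) (P.inv_mem ha)) (P.inv_mem hb)
  · rw [← cm_eq_one]
    have e1 : ∀ p ∈ P, cm p⁻¹ y = cm p y := fun p hp => by
      have h0 : cm p y * cm p⁻¹ y = 1 := by
        rw [← hhom p⁻¹ (P.inv_mem hp) p hp y hy]; simp [cm]
      rw [eq_inv_of_mul_eq_one_right h0, s.inv_eq (hy.2 p hp)]
    unfold cm at *
    rw [hhom _ (P.mul_mem (P.mul_mem ha hb) (P.inv_mem ha)) _ (P.inv_mem hb) y hy,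
      hhom _ (P.mul_mem ha hb) _ (P.inv_mem ha) y hy, hhom a ha b hb y hy]
    rw [e1 b hb, e1 a ha]
    set A := a * y * a⁻¹ * y⁻¹
    set B := b * y * b⁻¹ * y⁻¹
    have hA : A ∈ V := hy.2 a ha
    have hB : B ∈ V := hy.2 b hb
    calc B * (A * (B * A)) = B * B * (A * A) := by
          rw [← mul_assoc A B A, s.comm A hA B hB, mul_assoc B A A, ← mul_assoc]
      _ = 1 := by rw [s.sq A hA, s.sq B hB, one_mul]
  · rw [← cm_eq_one, hhom a ha a ha y hy]
    exact s.sq _ (hy.2 a ha)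

theorem Setting.cent_pp {m : G} (hm : m ∈ Subgroup.normalizer (V : Set G))
    (hc : ∀ p ∈ pp V Q, m * p = p * m) : m ∈ V := by
  let C : Subgroup G := Subgroup.normalizer (V : Set G) ⊓ Subgroup.centralizer (pp V Q : Set G)
  have hCQ : ∀ c ∈ C, c ∈ Q → c ∈ V := fun c hc hq =>
    s.mem_V_of_central ⟨hq, Subgroup.mem_centralizer_iff.2 fun v hv =>
      Subgroup.mem_centralizer_iff.1 hc.2 v (s.V_le_pp hv)⟩
      fun p hp => (Subgroup.mem_centralizer_iff.1 hc.2 p hp).symm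
  have hCn : ∀ m ∈ Subgroup.normalizer (V : Set G), ∀ c ∈ C, m * c * m⁻¹ ∈ C := by
    intro m hm c hc
    refine ⟨Subgroup.mul_mem _ (Subgroup.mul_mem _ hm hc.1) (Subgroup.inv_mem _ hm),
      Subgroup.mem_centralizer_iff.2 fun p hp => ?_⟩
    have e := Subgroup.mem_centralizer_iff.1 hc.2 _ (s.pp_normal (inv_mem hm) hp)
    calc p * (m * c * m⁻¹) = m * (m⁻¹ * p * m⁻¹⁻¹ * c) * m⁻¹ := by group
      _ = _ := by rw [e]; group
  have hC2 : ∀ c ∈ C, c * c ∈ V := by
    intro c hc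
    refine hCQ _ (C.mul_mem hc hc) (s.Q_cent _ (mul_mem hc.1 hc.1) fun x hx => ?_)
    have h1 : cm x c ∈ V := by
      refine hCQ _ ?_ ?_
      · exact C.mul_mem (hCn x (s.Q_le hx) c hc) (C.inv_mem hc)
      · have := Q.mul_mem hx (s.Q_norm c hc.1 _ (Q.inv_mem hx))
        simpa [cm, mul_assoc] using this
    have hv : c * cm x c * c⁻¹ = cm x c := by
      rw [← Subgroup.mem_centralizer_iff.1 hc.2 _ (s.V_le_pp h1), mul_inv_cancel_right]
    have h2 : cm x (c * c) = 1 := by rw [cm_mul_right, hv, s.sq _ h1]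
    exact (cm_eq_one.1 h2).symm
  have hCP : IsPGroup 2 C := fun c => ⟨2, Subtype.ext (by
    show (c : G) ^ 4 = 1
    rw [show (4 : ℕ) = 2 * 2 from rfl, pow_mul, pow_two (c : G), pow_two]
    exact s.sq _ (hC2 c c.2))⟩
  have hCle := s.Q_max C inf_le_left hCP hCn
  exact hCQ m ⟨hm, Subgroup.mem_centralizer_iff.2 fun p hp => (hc p hp).symm⟩
    (hCle ⟨hm, Subgroup.mem_centralizer_iff.2 fun p hp => (hc p hp).symm⟩)

theorem Setting.mem_of_le_pp {U : Subgroup G} (hU : U ≤ pp V Q) {p u : G} (hp : p ∈ pp V Q)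
    (hu : u ∈ U) : cm p u ∈ V := (s.commutator_mem hp (hU hu)).1

theorem Setting.cm_left {p q r : G} (hp : p ∈ pp V Q) (hq : q ∈ pp V Q) (hr : r ∈ pp V Q) :
    cm (p * q) r = cm p r * cm q r := by
  rw [cm_mul_left, s.conj_eq hp (s.commutator_mem hq hr).1,
    s.comm _ (s.commutator_mem hq hr).1 _ (s.commutator_mem hp hr).1]

theorem Setting.cm_right {p q r : G} (hp : p ∈ pp V Q) (hq : q ∈ pp V Q) (hr : r ∈ pp V Q) :
    cm p (q * r) = cm p q * cm p r := by
  rw [cm_mul_right, s.conj_eq hq (s.commutator_mem hp hr).1]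

theorem Setting.cm_symm {p q : G} (hp : p ∈ pp V Q) (hq : q ∈ pp V Q) : cm p q = cm q p := by
  rw [← cm_inv p q, s.inv_eq (s.commutator_mem hp hq).1]

/-- Conjugating `V` and `Q` gives another such pair. -/
theorem Setting.transport (g : G) : Setting (cj g V) (cj g Q) := by
  have hN : ∀ {m}, m ∈ Subgroup.normalizer (cj g V : Set G) →
      g⁻¹ * m * g ∈ Subgroup.normalizer (V : Set G) := by
    intro m hm
    rw [mem_normalizer_iff_cj] at hm ⊢
    rw [cj_mul, cj_mul, hm, ← cj_mul, inv_mul_cancel, cj_one]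
  have hback : ∀ {A : Subgroup G}, A ≤ Subgroup.normalizer (cj g V : Set G) →
      cj g⁻¹ A ≤ Subgroup.normalizer (V : Set G) := fun {A} hA x hx => by
    have := hN (hA (mem_cj.1 hx))
    simpa [mul_assoc] using this
  have hrot : ∀ A : Subgroup G, cj g (cj g⁻¹ A) = A := fun A => by
    rw [← cj_mul, mul_inv_cancel, cj_one]
  exact
  { comm := (s.conj_comm ⟨g, rfl⟩).1
    sq := (s.conj_comm ⟨g, rfl⟩).2
    ne_bot := fun e => s.ne_bot (by
      rw [← cj_one V, ← inv_mul_cancel g, cj_mul, e]; exact Subgroup.map_bot _)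
    le_Q := cj_le_cj s.le_Q
    Q_le := fun x hx => by
      have := mem_normalizer_iff_cj.1 (s.Q_le (mem_cj.1 hx))
      rw [mem_normalizer_iff_cj]
      have h2 := congrArg (cj g) this
      rw [← cj_mul] at h2
      simpa [← cj_mul, mul_assoc] using h2
    Q_norm := fun m hm x hx => mem_cj.2 (by
      have := s.Q_norm _ (hN hm) _ (mem_cj.1 hx)
      simpa [mul_assoc] using this)
    Q_two := s.Q_two.map _
    Q_max := fun N hNle hN2 hNn => by
      rw [← hrot N]
      refine cj_le_cj (s.Q_max _ (hback hNle) (hN2.map _) fun m hm x hx => mem_cj.2 ?_)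
      have hm' : g * m * g⁻¹ ∈ Subgroup.normalizer (cj g V : Set G) := by
        rw [mem_normalizer_iff_cj] at hm ⊢
        rw [← cj_mul, inv_mul_cancel_right, cj_mul, hm]
      have := hNn _ hm' _ (mem_cj.1 hx)
      simpa [mul_assoc] using this
    Q_cent := fun m hm hc => mem_cj.2 (s.Q_cent _ (hN hm) fun x hx => by
      have e := hc _ (conj_mem_cj hx)
      calc g⁻¹ * m * g * x = g⁻¹ * (m * (g * x * g⁻¹)) * g := by group
        _ = _ := by rw [e]; group)
    max_abelian := fun A hVA hA hab hn => by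
      rw [← hrot A]
      congr 1
      refine s.max_abelian _ (fun v hv => mem_cj.2 ?_) (hback hA) (fun a ha b hb => ?_)
        (fun m hm x hx => mem_cj.2 ?_)
      · have := hVA (conj_mem_cj (x := g) hv); simpa [mul_assoc] using this
      · have e := hab _ (mem_cj.1 ha) _ (mem_cj.1 hb)
        simp only [inv_inv, mul_assoc, inv_mul_cancel_left] at e
        exact mul_left_cancel (a := g) (by simpa [← mul_assoc] using e)
      · have hm' : g * m * g⁻¹ ∈ Subgroup.normalizer (cj g V : Set G) := by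
          rw [mem_normalizer_iff_cj] at hm ⊢
          rw [← cj_mul, inv_mul_cancel_right, cj_mul, hm]
        have := hn _ hm' _ (mem_cj.1 hx)
        simpa [mul_assoc] using this
    ti := fun x => by
      rcases s.ti (g⁻¹ * x * g) with h | h
      · left
        have := congrArg (cj g) h
        rw [← cj_mul, ← mul_assoc, ← mul_assoc, mul_inv_cancel, one_mul, cj_mul] at this
        exact this
      · right
        rw [eq_bot_iff]
        intro z hz
        have h1 : g⁻¹ * z * g ∈ cj (g⁻¹ * x * g) V ⊓ V := by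
          refine ⟨mem_cj.2 ?_, mem_cj.1 hz.2⟩
          have := mem_cj.1 (mem_cj.1 hz.1)
          simpa [mul_assoc] using this
        rw [h, Subgroup.mem_bot] at h1
        simpa [mul_assoc, mul_inv_eq_one, inv_mul_eq_one] using h1 }

end Cfsg.Lib.TISpecial
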