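import Cfsg.Agent.TISpecial.Quadratic

/-!
# A spread set closed under inversion is a field, in characteristic two
-/

set_option autoImplicit false
set_option linter.unusedSectionVars false

namespace Cfsg.Lib.TISpecial

variable {V : Type*} [AddCommGroup V] [Finite V]
  {S : AddSubgroup (AddMonoid.End V)} (h : SpreadSet S)
include h

section Core

variable {K : Type*} [Field K] [Finite K] [Algebra (ZMod 2) K]
  {j : K →+* AddMonoid.End V}

theorem no_involutive (hjS : ∀ k, j k ∈ S)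
    (hmax : ∀ s ∈ S, (∀ k, s * j k = j k * s) → s ∈ Set.range j) {ρ : K ≃ₐ[ZMod 2] K}
    (hρ : ρ ≠ 1) (hρ2 : ρ * ρ = 1) {x : AddMonoid.End V} (hx : x ∈ S) (htw : Tw j ρ x) : x = 0 := by
  by_contra hx0
  have hc2 : Tw j 1 (x * x) := hρ2 ▸ htw.mul htw
  have hxx : x * x ∈ S := sq x ▸ h.pow_mem hx 2
  obtain ⟨c, hc⟩ := hmax _ hxx fun k => by simpa using hc2 k
  have hc0 : c ≠ 0 := by
    rintro rfl
    rw [map_zero] at hc
    exact hx0 ((h.isUnit hx hx0).mul_right_eq_zero.1 hc.symm)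
  have hfix : ρ c = c := by
    by_contra hne
    refine hx0 (eq_zero_of_coe_mul (j := j) (sub_ne_zero.2 hne) ?_)
    rw [map_sub, sub_mul, ← htw, hc, mul_assoc, sub_self]
  have : CharP K 2 := CharP.of_ringHom_of_ne_zero (algebraMap (ZMod 2) K) 2 two_ne_zero
  have hsq : ∀ u v : K, u * u = v * v → u = v := fun u v e =>
    frobenius_inj K 2 (by simpa [frobenius_def, sq] using e)
  obtain ⟨e₀, he₀⟩ := (Finite.injective_iff_surjective.1 (frobenius_inj K 2)) c
  rw [frobenius_def, sq] at he₀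
  have hefix : ρ e₀ = e₀ := hsq _ _ (by rw [← map_mul, he₀, hfix])
  obtain ⟨l, hl⟩ := (Finite.injective_iff_surjective.1 (frobenius_inj K 2)) e₀⁻¹
  rw [frobenius_def, sq] at hl
  have hlfix : ρ l = l := hsq _ _ (by rw [← map_mul, hl, map_inv₀, hefix])
  have hμS : j e₀⁻¹ * x ∈ S := by
    have := h.aba_mem (hjS l) hx
    rwa [mul_assoc, htw, hlfix, ← mul_assoc, ← map_mul, hl] at this
  have hone : j e₀⁻¹ * x * (j e₀⁻¹ * x) = 1 := by
    rw [mul_assoc, ← mul_assoc x, htw, map_inv₀ ρ, hefix, mul_assoc (j e₀⁻¹) x x, ← hc, ← map_mul,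
      ← map_mul, ← he₀, ← map_one j]
    congr 1
    have : e₀ ≠ 0 := by rintro rfl; simp at he₀; exact hc0 he₀.symm
    field_simp
  have h1 := h.eq_one_of_sq hμS hone
  have hxe : x = j e₀ := by
    calc x = j (e₀ * e₀⁻¹) * x := by
          rw [mul_inv_cancel₀ (by rintro rfl; simp at he₀; exact hc0 he₀.symm), map_one, one_mul]
      _ = _ := by rw [map_mul, mul_assoc, h1, mul_one]
  exact hx0 (htw.eq_zero (hxe ▸ tw_coe e₀) hρ)

theorem range_eq (hjS : ∀ k, j k ∈ S)
    (hmax : ∀ s ∈ S, (∀ k, s * j k = j k * s) → s ∈ Set.range j) :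
    ∀ s ∈ S, s ∈ Set.range j := by
  classical
  obtain ⟨n, e, f, D⟩ := exists_dualPair (K := K)
  have : CharP K 2 := CharP.of_ringHom_of_ne_zero (algebraMap (ZMod 2) K) 2 two_ne_zero
  have hsqinj : ∀ u v : K, u * u = v * v → u = v := fun u v e =>
    frobenius_inj K 2 (by simpa [frobenius_def, sq] using e)
  by_contra! hbad
  obtain ⟨s, hs, hsj⟩ := hbad
  have hex : ∃ ρ : K ≃ₐ[ZMod 2] K, ρ ≠ 1 ∧ ∃ s ∈ S, proj j e f ρ s ≠ 0 := by
    by_contra! hall
    refine hsj (hmax s hs fun k => ?_)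
    have e1 := sum_proj (j := j) (z := s) D
    rw [Finset.sum_eq_single 1 (fun σ _ hσ => hall σ hσ s hs) (by simp)] at e1
    have := proj_tw (j := j) (z := s) (ρ := 1) D k
    rw [e1] at this
    simpa using this
  obtain ⟨ρ, hρA, hρmin⟩ := Finset.exists_min_image
    (Finset.univ.filter fun ρ : K ≃ₐ[ZMod 2] K => ρ ≠ 1 ∧ ∃ s ∈ S, proj j e f ρ s ≠ 0) orderOf
    ⟨hex.choose, by simpa using hex.choose_spec⟩
  simp only [Finset.mem_filter, Finset.mem_univ, true_and] at hρA hρmin
  obtain ⟨hρ1, t, ht, htx⟩ := hρA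
  have hsand1 : ∀ z ∈ S, ∀ k, j k * z * j k ∈ S := fun z hz k => h.aba_mem (hjS k) hz
  have hsand2 : ∀ z ∈ S, ∀ k l, j k * z * j l + j l * z * j k ∈ S :=
    fun z hz k l => h.polar_mem (hjS k) hz (hjS l)
  by_cases hρ2 : ρ * ρ = 1
  · exact htx (no_involutive h hjS hmax hρ1 hρ2
      (proj_mem D S (inv_eq_of_mul_eq_one_right hρ2) (hsand1 t ht) (hsand2 t ht)) (proj_tw D))
  set x := proj j e f ρ t with hx
  set y := proj j e f ρ⁻¹ t with hy
  have twx : Tw j ρ x := proj_tw D
  have twy : Tw j ρ⁻¹ y := proj_tw D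
  have hxy : x + y ∈ S := proj_add_proj_inv_mem D S (hsand2 t ht)
  let Λ : K → Prop := fun μ => j μ * x + j (ρ⁻¹ μ) * y ∈ S
  have hρρ : ∀ u, ρ⁻¹ (ρ u) = u := fun u => ρ.symm_apply_apply u
  have hΛone : Λ 1 := by simpa [Λ] using hxy
  have hΛadd : ∀ u v, Λ u → Λ v → Λ (u + v) := fun u v hu hv => by
    have := S.add_mem hu hv
    simp only [Λ, map_add, add_mul]
    rwa [add_add_add_comm]
  have hΛ1 : ∀ k, Λ (k * ρ k) := fun k => by
    have := hsand1 _ hxy k
    rw [mul_add, add_mul, mul_assoc, twx, mul_assoc, twy, ← mul_assoc, ← mul_assoc, ← map_mul,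
      ← map_mul] at this
    simp only [Λ, map_mul ρ⁻¹, hρρ]
    rwa [mul_comm (ρ⁻¹ k) k]
  have hΛ2 : ∀ k l, Λ (k * ρ l + l * ρ k) := fun k l => by
    have := hsand2 _ hxy k l
    rw [mul_add, add_mul, mul_assoc (j k) x, twx, mul_assoc (j k) y, twy, mul_add, add_mul,
      mul_assoc (j l) x, twx, mul_assoc (j l) y, twy] at this
    simp only [Λ, map_add, map_mul, add_mul, hρρ]
    simp only [← mul_assoc, ← map_mul] at this ⊢
    rw [mul_comm (ρ⁻¹ k) l, mul_comm (ρ⁻¹ l) k]
    convert this using 1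
    abel
  -- the products are scalars
  have hsq2 : ρ⁻¹ * ρ⁻¹ ≠ 1 := fun e => hρ2 (by rw [← inv_inj, mul_inv_rev, e, inv_one])
  have hΛsq : ∀ μ, Λ μ → ∃ c, j (μ * μ) * (x * y) + j (ρ⁻¹ μ * ρ⁻¹ μ) * (y * x) = j c := by
    intro μ hμ
    have hP := proj_mem D (ρ := 1) (z := (j μ * x + j (ρ⁻¹ μ) * y) ^ 2) S inv_one
      (hsand1 _ (h.pow_mem hμ 2)) (hsand2 _ (h.pow_mem hμ 2))
    obtain ⟨c, hc⟩ := hmax _ hP fun k => by simpa using proj_tw (j := j) (ρ := 1) D k
    refine ⟨c, ?_⟩
    rw [hc]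
    have e1 : (j μ * x + j (ρ⁻¹ μ) * y) ^ 2 =
        j μ * (x * j μ) * x + j μ * (x * j (ρ⁻¹ μ)) * y + j (ρ⁻¹ μ) * (y * j μ) * x +
          j (ρ⁻¹ μ) * (y * j (ρ⁻¹ μ)) * y := by rw [sq]; noncomm_ring
    rw [e1, twx, twx, twy, twy]
    rw [show ρ (ρ⁻¹ μ) = μ from ρ.apply_symm_apply μ]
    simp only [← mul_assoc, ← map_mul]
    simp only [mul_assoc (j _) x, mul_assoc (j _) y]
    have txy : Tw j 1 (x * y) := mul_inv_cancel ρ ▸ twx.mul twy
    have tyx : Tw j 1 (y * x) := inv_mul_cancel ρ ▸ twy.mul twx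
    rw [map_add, map_add, map_add, proj_of_ne D ((twx.mul twx).coe_mul _) (Ne.symm hρ2),
      proj_self D (txy.coe_mul _), proj_self D (tyx.coe_mul _),
      proj_of_ne D ((twy.mul twy).coe_mul _) hsq2.symm, zero_add, add_zero]
  obtain ⟨k, hk⟩ : ∃ k, ρ (ρ k) ≠ k := by
    by_contra! hall; exact hρ2 (AlgEquiv.ext hall)
  obtain ⟨c₁, hc₁⟩ := hΛsq 1 hΛone
  simp only [map_one, mul_one, one_mul] at hc₁
  set μ₀ := k * ρ 1 + 1 * ρ k with hμ₀
  obtain ⟨c₂, hc₂⟩ := hΛsq μ₀ (hΛ2 k 1)
  set A := μ₀ * μ₀ with hA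
  set B := ρ⁻¹ μ₀ * ρ⁻¹ μ₀ with hB
  have hAB : A - B ≠ 0 := by
    rw [sub_ne_zero]
    intro eAB
    have e1 : ρ μ₀ = μ₀ := by
      have := hsqinj _ _ eAB
      conv_lhs => rw [this]
      exact ρ.apply_symm_apply μ₀
    apply hk
    simp only [hμ₀, map_one, mul_one, one_mul, map_add] at e1
    rw [add_comm (ρ k)] at e1
    exact add_right_cancel e1
  have hxy' : ∃ a, x * y = j a := by
    refine ⟨(A - B)⁻¹ * (c₂ - B * c₁), ?_⟩
    have e1 : j (A - B) * (x * y) = j (c₂ - B * c₁) := by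
      rw [map_sub, map_sub, map_mul j B c₁, ← hc₁, ← hc₂]; noncomm_ring
    rw [map_mul, ← e1, ← mul_assoc, ← map_mul, inv_mul_cancel₀ hAB, map_one, one_mul]
  obtain ⟨a, ha⟩ := hxy'
  have hb : y * x = j (c₁ - a) := by rw [map_sub, ← hc₁, ← ha]; noncomm_ring
  set b := c₁ - a
  have hx0 : x ≠ 0 := htx
  have hba : ρ b = a := by
    by_contra hne
    refine hx0 (eq_zero_of_coe_mul (j := j) (sub_ne_zero.2 hne) ?_)
    rw [map_sub, sub_mul, ← twx, ← hb, ← mul_assoc, ha, sub_self]
  have hunit : a ≠ 0 → IsUnit x := fun ha0 =>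
    IsUnit.of_mul_eq_one (y * j a⁻¹)
      (by rw [← mul_assoc, ha, ← map_mul, mul_inv_cancel₀ ha0, map_one])
  have hs0 : x + y ≠ 0 := by
    intro e0
    have hp := congrArg (proj j e f ρ) e0
    rw [map_zero, map_add, proj_self D twx,
      proj_of_ne D twy (fun e => hρ2 (by nth_rw 1 [e]; rw [inv_mul_cancel])), add_zero] at hp
    exact hx0 hp
  have hsunit : IsUnit ((x + y) * (x + y)) := (h.isUnit hxy hs0).mul (h.isUnit hxy hs0)
  have : Nontrivial (AddMonoid.End V) := ⟨x, 0, hx0⟩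
  -- the order is odd
  have hord : orderOf ρ % 2 = 1 := by
    by_contra heven
    have hn2 : 2 ∣ orderOf ρ := by omega
    have hlt : orderOf (ρ * ρ) < orderOf ρ := by
      rw [← sq, orderOf_pow' ρ two_ne_zero, Nat.gcd_eq_right hn2]
      exact Nat.div_lt_self (orderOf_pos ρ) (by norm_num)
    have hvan : ∀ σ, (σ = ρ * ρ ∨ σ = ρ⁻¹ * ρ⁻¹) → ∀ z ∈ S, proj j e f σ z = 0 := by
      rintro σ hσ z hz
      by_contra hne
      have hσ1 : σ ≠ 1 := by rcases hσ with rfl | rfl; exacts [hρ2, hsq2]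
      have hle := hρmin σ ⟨hσ1, z, hz, hne⟩
      have : orderOf σ = orderOf (ρ * ρ) := by
        rcases hσ with rfl | rfl
        · rfl
        · rw [← mul_inv_rev, orderOf_inv]
      omega
    have hexp : (x + y) * (x + y) = x * x + (j a + j b) + y * y := by
      rw [← ha, ← hb]; noncomm_ring
    have hS2 : (x + y) * (x + y) ∈ S := sq (x + y) ▸ h.pow_mem hxy 2
    by_cases h4 : ρ * ρ = ρ⁻¹ * ρ⁻¹
    · have e1 := hvan _ (Or.inl rfl) _ hS2
      rw [hexp, map_add, map_add, map_add, proj_self D (twx.mul twx),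
        proj_of_ne D (tw_coe a) hρ2, proj_of_ne D (tw_coe b) hρ2,
        proj_self D (h4 ▸ twy.mul twy), add_zero, add_zero] at e1
      by_cases ha0 : a = 0
      · have hb0 : b = 0 := (map_eq_zero ρ).1 (hba.trans ha0)
        refine hsunit.ne_zero ?_
        rw [hexp, ha0, hb0, map_zero, add_zero, add_zero]; exact e1
      have hyy : y * y = x * x := (h.eq_of_add_eq_zero e1).symm
      obtain ⟨k, hk0, hk⟩ : ∃ k, k ≠ 0 ∧ ρ (ρ k) ≠ k := by
        refine ⟨k, ?_, hk⟩
        rintro rfl; simp at hk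
      have hμ := hΛ1 k
      set μ := k * ρ k with hμdef
      have hS3 := h.pow_mem hμ 2
      have e2 := hvan _ (Or.inl rfl) _ hS3
      have e3 : (j μ * x + j (ρ⁻¹ μ) * y) ^ 2 =
          j μ * (x * j μ) * x + j μ * (x * j (ρ⁻¹ μ)) * y + j (ρ⁻¹ μ) * (y * j μ) * x +
            j (ρ⁻¹ μ) * (y * j (ρ⁻¹ μ)) * y := by rw [sq]; noncomm_ring
      rw [e3, twx, twx, twy, twy] at e2
      simp only [← mul_assoc, ← map_mul] at e2
      simp only [mul_assoc (j _) x, mul_assoc (j _) y] at e2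
      rw [hyy, ha, hb, ← map_mul j, ← map_mul j, map_add, map_add, map_add,
        proj_self D ((twx.mul twx).coe_mul _), proj_of_ne D (tw_coe _) hρ2,
        proj_of_ne D (tw_coe _) hρ2, proj_self D ((twx.mul twx).coe_mul _), add_zero, add_zero,
        ← add_mul, ← map_add] at e2
      have hxx0 : x * x ≠ 0 := ((hunit ha0).mul (hunit ha0)).ne_zero
      have hsum : μ * ρ μ + ρ⁻¹ (μ * ρ⁻¹ μ) = 0 := by
        by_contra hne; exact hxx0 (eq_zero_of_coe_mul hne e2)
      apply hk
      have r2 : ρ⁻¹ (ρ⁻¹ k) = ρ (ρ k) := (DFunLike.congr_fun h4 k).symm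
      rw [CharTwo.add_eq_zero, hμdef] at hsum
      simp only [map_mul, hρρ, r2] at hsum
      -- hsum : k * ρ k * (ρ k * ρ (ρ k)) = ρ⁻¹ k * k * (ρ (ρ k) * ρ⁻¹ k)
      have hkk : k * ρ (ρ k) ≠ 0 := by simp [hk0]
      have e4 : ρ k * ρ k = ρ⁻¹ k * ρ⁻¹ k := mul_left_cancel₀ hkk (by linear_combination hsum)
      have e5 := hsqinj _ _ e4
      rw [e5]; exact ρ.apply_symm_apply k
    · have e1 := hvan _ (Or.inl rfl) _ hS2
      rw [hexp, map_add, map_add, map_add, proj_self D (twx.mul twx), proj_of_ne D (tw_coe a) hρ2,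
        proj_of_ne D (tw_coe b) hρ2, proj_of_ne D (twy.mul twy) h4, add_zero, add_zero,
        add_zero] at e1
      have e2 := hvan _ (Or.inr rfl) _ hS2
      rw [hexp, map_add, map_add, map_add, proj_of_ne D (twx.mul twx) (Ne.symm h4),
        proj_of_ne D (tw_coe a) hsq2, proj_of_ne D (tw_coe b) hsq2,
        proj_self D (twy.mul twy), zero_add, zero_add, zero_add] at e2
      by_cases ha0 : a = 0
      · have hb0 : b = 0 := (map_eq_zero ρ).1 (hba.trans ha0)
        refine hsunit.ne_zero ?_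
        rw [hexp, e1, e2, ha0, hb0, map_zero]; simp
      · exact ((hunit ha0).mul (hunit ha0)).ne_zero e1
  set m := orderOf ρ with hm
  have hm3 : 3 ≤ m := by
    have h1 : m ≠ 1 := fun e => hρ1 (orderOf_eq_one_iff.1 e)
    omega
  -- all scalars occur
  have hΛall : ∀ μ, Λ μ := by
    intro μ
    obtain ⟨n, hn⟩ : ∃ n, m = 2 * n + 1 := ⟨m / 2, by omega⟩
    have hD : ∀ d, Λ (∑ i ∈ Finset.range (2 * d), (ρ ^ (i + 1)) μ) := by
      intro d
      induction d with
      | zero => simp [Λ]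
      | succ d ih =>
        rw [show 2 * (d + 1) = 2 * d + 1 + 1 by ring, Finset.sum_range_succ, Finset.sum_range_succ,
          add_assoc]
        refine hΛadd _ _ ih ?_
        have := hΛ2 1 ((ρ ^ (2 * d + 1)) μ)
        rw [one_mul, map_one, mul_one] at this
        rw [add_comm, pow_succ' ρ (2 * d + 1)]
        exact this
    have hT : ρ (∑ i ∈ Finset.range m, (ρ ^ i) μ) = ∑ i ∈ Finset.range m, (ρ ^ i) μ := by
      rw [map_sum]
      have := Finset.sum_range_succ (fun i => (ρ ^ i) μ) m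
      rw [Finset.sum_range_succ' (fun i => (ρ ^ i) μ) m, hm, pow_orderOf_eq_one, pow_zero] at this
      refine Eq.trans (Finset.sum_congr rfl fun i _ => ?_) (add_right_cancel this)
      rw [pow_succ']; rfl
    set T := ∑ i ∈ Finset.range m, (ρ ^ i) μ with hTdef
    obtain ⟨w, hw⟩ := (Finite.injective_iff_surjective.1 (frobenius_inj K 2)) T
    rw [frobenius_def, sq] at hw
    have hwfix : ρ w = w := hsqinj _ _ (by rw [← map_mul, hw, hT])
    have hΛT : Λ T := by have := hΛ1 w; rwa [hwfix, hw] at this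
    have hμ : μ = T + ∑ i ∈ Finset.range (2 * n), (ρ ^ (i + 1)) μ := by
      rw [hTdef, hn, Finset.sum_range_succ', pow_zero, AlgEquiv.one_apply,
        add_comm (∑ i ∈ _, _) μ, add_assoc, CharTwo.add_self_eq_zero, add_zero]
    rw [hμ]; exact hΛadd _ _ hΛT (hD n)
  have P : PairData S j ρ x y a b :=
    { twx := twx, twy := twy, x_ne := hx0, xy := ha, yx := hb
      mem := fun κ μ => by rw [add_assoc]; exact S.add_mem (hjS κ) (hΛall μ)
      sq_ne := hρ2 }
  have hm0 : 0 < m := by omega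
  have hρm : ρ ^ m = 1 := pow_orderOf_eq_one ρ
  -- the trace scalar
  have hC : ∃ C, x ^ m + y ^ m = j C := by
    have hPS := h.pow_mem hxy m
    have hP := proj_mem D (ρ := 1) (z := (x + y) ^ m) S inv_one (hsand1 _ hPS) (hsand2 _ hPS)
    obtain ⟨C, hC⟩ := hmax _ hP fun k => by simpa using proj_tw (j := j) (ρ := 1) D k
    refine ⟨C, ?_⟩
    have e1 := P.proj_low D hm hord (P.expand m hm0)
    rw [map_sub, sub_eq_zero, ← hC, map_add,
      proj_self D (hρm ▸ twx.pow m),
      proj_self D (show Tw j 1 (y ^ m) from (show ρ⁻¹ ^ m = 1 by rw [inv_pow, hρm, inv_one]) ▸ twy.pow m)] at e1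
    exact e1.symm
  obtain ⟨C, hC⟩ := hC
  have hYx : x * y ^ m = y ^ m * x := P.commute_pow hρm hm0
  have hXx : x * x ^ m = x ^ m * x := Commute.self_pow x m
  have hCfix : ρ C = C := by
    by_contra hne
    refine hx0 (eq_zero_of_coe_mul (j := j) (sub_ne_zero.2 hne) ?_)
    rw [map_sub, sub_mul, ← twx, ← hC, mul_add, add_mul, hYx, hXx, sub_self]
  obtain ⟨N, hN, hN1, hN0⟩ := P.pow_mul_pow m
  have hq : x ^ m * x ^ m + j C * x ^ m + j N = 0 := by
    have hcomm : x ^ m * y ^ m = y ^ m * x ^ m :=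
      (Commute.pow_left (show Commute x (y ^ m) from hYx) m).eq
    rw [← hC, ← hN, add_mul]
    calc x ^ m * x ^ m + (x ^ m * x ^ m + y ^ m * x ^ m) + x ^ m * y ^ m
        = (x ^ m * x ^ m + x ^ m * x ^ m) + (x ^ m * y ^ m + x ^ m * y ^ m) := by
          rw [hcomm]; abel
      _ = 0 := by rw [h.add_self, h.add_self, add_zero]
  obtain ⟨w₀, hw₀⟩ : ∃ v : V, v ≠ 0 := by
    by_contra! hall
    exact hx0 (AddMonoidHom.ext fun v => (hall _).trans (hall _).symm)
  by_cases ha0 : a = 0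
  · have hb0 : b = 0 := (map_eq_zero ρ).1 (hba.trans ha0)
    have hsm := P.pow_zero_case ha0 hb0 m hm0
    have hC0 : C ≠ 0 := by
      rintro rfl
      refine ((h.isUnit hxy hs0).pow m).ne_zero ?_
      rw [hsm, hC, map_zero]
    have hN' : N = 0 := hN0 ha0 hm0
    rw [hN', map_zero, add_zero] at hq
    by_cases hX : x ^ m = 0
    · have hYC : y ^ m = j C := by rw [← hC, hX, zero_add]
      have hy0 : y ≠ 0 := by
        intro e
        rw [e, zero_pow (by omega), ← map_zero j] at hYC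
        exact hC0 (j.injective hYC).symm
      refine (P.swap hy0).no_eigen h D hC0 ?_ hw₀ (by rw [orderOf_inv, ← hm, hYC])
      nth_rw 1 [← hCfix]
      exact hρρ C
    · obtain ⟨w, hw⟩ : ∃ w, (x ^ m) w ≠ 0 := by
        by_contra! hall; exact hX (AddMonoidHom.ext hall)
      refine P.no_eigen h D hC0 hCfix hw ?_
      rw [← hm]
      exact DFunLike.congr_fun (h.eq_of_add_eq_zero hq) w
  · by_cases hroot : ∃ r, r * r + C * r + N = 0
    · obtain ⟨r, hr⟩ := hroot
      have hrC : ∀ r', r' * r' + C * r' + N = 0 → r' = r ∨ r' = r + C := by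
        intro r' hr'
        have : (r' + r) * (r' + r + C) = 0 := by
          calc (r' + r) * (r' + r + C)
              = (r' * r' + C * r' + N) + (r * r + C * r + N) + (r' * r + r' * r) + (-(N + N)) := by
                ring
            _ = 0 := by simp only [hr, hr', CharTwo.add_self_eq_zero, neg_zero]
        rcases mul_eq_zero.1 this with e | e
        · exact Or.inl (CharTwo.add_eq_zero.1 e)
        · exact Or.inr (CharTwo.add_eq_zero.1 ((add_assoc r' r C).symm.trans e))
      have hNfix : ρ N = N := by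
        by_contra hne
        refine hx0 (eq_zero_of_coe_mul (j := j) (sub_ne_zero.2 hne) ?_)
        rw [map_sub, sub_mul, ← twx, ← hN, ← mul_assoc, hXx, mul_assoc, hYx, ← mul_assoc, sub_self]
      have hfixr : ∀ r', r' * r' + C * r' + N = 0 → ρ r' = r' := by
        intro r' hr'
        have hr2 : ρ r' * ρ r' + C * ρ r' + N = 0 := by
          have := congrArg ρ hr'
          rwa [map_add, map_add, map_mul, map_mul, hCfix, hNfix, map_zero] at this
        have hmove : ρ r' = r' ∨ ρ r' = r' + C := by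
          rcases hrC r' hr' with e | e <;> rcases hrC _ hr2 with e' | e'
          · exact Or.inl (by rw [e', e])
          · exact Or.inr (by rw [e', e])
          · exact Or.inr (by rw [e', e, add_assoc, CharTwo.add_self_eq_zero, add_zero])
          · exact Or.inl (by rw [e', e])
        rcases hmove with e | e
        · exact e
        · have hev : ∀ i : ℕ, (ρ ^ (2 * i)) r' = r' := by
            intro i
            induction i with
            | zero => simp
            | succ i ih =>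
              rw [show 2 * (i + 1) = 1 + (1 + 2 * i) by ring, pow_add, pow_add, pow_one,
                AlgEquiv.mul_apply, AlgEquiv.mul_apply, ih, e, map_add, e, hCfix, add_assoc,
                CharTwo.add_self_eq_zero, add_zero]
          obtain ⟨n, hn⟩ : ∃ n, m = 2 * n + 1 := ⟨m / 2, by omega⟩
          have h1 := DFunLike.congr_fun hρm r'
          rwa [hn, pow_succ', AlgEquiv.mul_apply, hev, AlgEquiv.one_apply] at h1
      have hr' : (r + C) * (r + C) + C * (r + C) + N = 0 := by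
        calc (r + C) * (r + C) + C * (r + C) + N
            = (r * r + C * r + N) + (r * C + r * C) + (C * C + C * C) := by ring
          _ = 0 := by simp only [hr, CharTwo.add_self_eq_zero]
      have hne0 : ∀ r', r' * r' + C * r' + N = 0 → r' ≠ 0 := by
        rintro r' h' rfl; exact hN1 ha0 (by simpa using h')
      have hfac : (x ^ m + j r) * (x ^ m + j (r + C)) = 0 := by
        have hc : x ^ m * j (r + C) = j (r + C) * x ^ m := by
          simpa using (hρm ▸ twx.pow m : Tw j 1 (x ^ m)) (r + C)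
        have e0 : j r * j (r + C) = j N := by
          rw [← map_mul]; congr 1
          refine CharTwo.add_eq_zero.1 ?_
          calc r * (r + C) + N = r * r + C * r + N := by ring
            _ = 0 := hr
        calc (x ^ m + j r) * (x ^ m + j (r + C))
            = x ^ m * x ^ m + x ^ m * j (r + C) + j r * x ^ m + j r * j (r + C) := by noncomm_ring
          _ = (x ^ m * x ^ m + j C * x ^ m + j N) + (j r * x ^ m + j r * x ^ m) := by
              rw [hc, e0, map_add]; noncomm_ring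
          _ = 0 := by rw [hq, h.add_self, add_zero]
      have happ : ∀ r' v, (x ^ m + j r') v = 0 → (x ^ m) v = j r' v := fun r' v e => by
        have e' : (x ^ m) v + j r' v = 0 := e
        rw [eq_neg_of_add_eq_zero_left e', neg_eq_of_add_eq_zero_left (h.two _)]
      by_cases hk : x ^ m + j (r + C) = 0
      · exact P.no_eigen h D (hne0 _ hr') (hfixr _ hr') hw₀
          (happ _ _ (DFunLike.congr_fun hk w₀))
      · obtain ⟨w, hw⟩ : ∃ w, (x ^ m + j (r + C)) w ≠ 0 := by
          by_contra! hall; exact hk (AddMonoidHom.ext hall)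
        exact P.no_eigen h D (hne0 _ hr) (hfixr _ hr) hw (happ _ _ (DFunLike.congr_fun hfac w))
    · exact P.no_quadratic h D ha0 hord hm3 C N hq (fun t e => hroot ⟨t, e⟩)

end Core

/-- A spread set closed under inversion is the range of a field of endomorphisms. -/
theorem SpreadSet.exists_field [Nontrivial V] :
    (∀ s ∈ S, ∀ t ∈ S, s * t = t * s) ∧ (∀ s ∈ S, ∀ t ∈ S, s * t ∈ S) := by
  classical
  obtain ⟨v₀, hv₀⟩ := exists_ne (0 : V)
  have hnt : Nontrivial (AddMonoid.End V) :=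
    ⟨1, 0, fun e => hv₀ (by simpa using DFunLike.congr_fun e v₀)⟩
  let T : Set (Subring (AddMonoid.End V)) :=
    {R | (∀ z ∈ R, z ∈ S) ∧ ∀ z ∈ R, ∀ w ∈ R, z * w = w * z}
  have hfin : Finite (Subring (AddMonoid.End V)) := Finite.of_injective _ SetLike.coe_injective
  have hbot : (⊥ : Subring (AddMonoid.End V)) ∈ T := by
    refine ⟨fun z hz => ?_, fun z hz w hw => ?_⟩
    · obtain ⟨n, rfl⟩ := Subring.mem_bot.1 hz
      rw [← zsmul_one]; exact S.zsmul_mem h.one n
    · obtain ⟨n, rfl⟩ := Subring.mem_bot.1 hz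
      exact (Int.cast_commute n w).eq
  obtain ⟨R, ⟨hRS, hRc⟩, hRmax⟩ :=
    Set.Finite.exists_maximalFor id T (Set.toFinite T) ⟨_, hbot⟩
  let _ : CommRing R :=
    { (inferInstance : Ring R) with mul_comm := fun p q => Subtype.ext (hRc _ p.2 _ q.2) }
  have hdom : ∀ p : R, p ≠ 0 → ∀ q : R, p * q = 0 → q = 0 := fun p hp q e =>
    Subtype.ext ((h.isUnit (hRS _ p.2) (fun e' => hp (Subtype.ext e'))).mul_right_eq_zero.1
      (congrArg Subtype.val e))
  have : NoZeroDivisors R := ⟨fun {p q} e => by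
    by_cases hp : p = 0
    · exact Or.inl hp
    · exact Or.inr (hdom p hp q e)⟩
  have : Nontrivial R := ⟨1, 0, fun e => one_ne_zero (congrArg Subtype.val e : (1 : AddMonoid.End V) = 0)⟩
  have : IsDomain R := NoZeroDivisors.to_isDomain R
  let _ : Field R := (Finite.isField_of_domain R).toField
  have : CharP R 2 := CharTwo.of_one_ne_zero_of_two_eq_zero one_ne_zero
    (Subtype.ext (by show (2 : AddMonoid.End V) = 0; rw [← one_add_one_eq_two]; exact h.add_self 1))
  let _ : Algebra (ZMod 2) R := ZMod.algebra R 2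
  let j : R →+* AddMonoid.End V := R.subtype
  have hmax : ∀ s ∈ S, (∀ k : R, s * j k = j k * s) → s ∈ Set.range j := by
    intro s hs hcomm
    let φ : Polynomial R →+* AddMonoid.End V :=
      Polynomial.eval₂RingHom' j s fun k => (hcomm k).symm
    have hφS : ∀ p, φ p ∈ S := by
      intro p
      induction p using Polynomial.induction_on' with
      | add p q hp hq => rw [map_add]; exact S.add_mem hp hq
      | monomial n k =>
        obtain ⟨l, hl⟩ := (Finite.injective_iff_surjective.1 (frobenius_inj R 2)) k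
        rw [frobenius_def, sq] at hl
        have e : φ (Polynomial.monomial n k) = j l * s ^ n * j l := by
          show Polynomial.eval₂ j s (Polynomial.monomial n k) = _
          rw [Polynomial.eval₂_monomial, ← hl, map_mul, mul_assoc, mul_assoc,
            (Commute.pow_right (hcomm l).symm n).eq]
        rw [e]
        exact h.aba_mem (hRS _ l.2) (h.pow_mem hs n)
    have hR' : φ.range ∈ T := by
      refine ⟨?_, ?_⟩
      · rintro _ ⟨p, rfl⟩; exact hφS p
      · rintro _ ⟨p, rfl⟩ _ ⟨q, rfl⟩; rw [← map_mul, ← map_mul, mul_comm]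
    have hle : R ≤ φ.range := fun z hz => ⟨Polynomial.C ⟨z, hz⟩, by
      show Polynomial.eval₂ j s _ = _
      rw [Polynomial.eval₂_C]; rfl⟩
    have hsφ : s ∈ φ.range := ⟨Polynomial.X, by
      show Polynomial.eval₂ j s _ = _
      rw [Polynomial.eval₂_X]⟩
    exact ⟨⟨s, hRmax hR' hle hsφ⟩, rfl⟩
  have hall := range_eq h (fun k => hRS _ k.2) hmax
  refine ⟨fun s hs t ht => ?_, fun s hs t ht => ?_⟩
  · obtain ⟨p, rfl⟩ := hall s hs; obtain ⟨q, rfl⟩ := hall t ht
    exact hRc _ p.2 _ q.2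
  · obtain ⟨p, rfl⟩ := hall s hs; obtain ⟨q, rfl⟩ := hall t ht
    exact hRS _ (p * q).2

end Cfsg.Lib.TISpecial
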