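import Cfsg.Agent.TISpecial.Mover
import Cfsg.Agent.TISpecial.SymField

/-!
# The spread set of a pair of opposite components
-/

set_option autoImplicit false
set_option linter.unusedSectionVars false

open scoped IsMulCommutative

namespace Cfsg.Lib.TISpecial

variable {G : Type*} [Group G] [Finite G] {V Q U Q' : Subgroup G} [IsMulCommutative ↥V]

/-- The action of an endomorphism of `Additive V` on an element of `V`. -/
def act (z : AddMonoid.End (Additive ↥V)) (v : ↥V) : ↥V := Additive.toMul (z (Additive.ofMul v))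

variable (s : Setting V Q) (s' : Setting U Q') (hU : IsComp V Q U) (hU' : IsComp U Q' V)

section Partner
include s s' hU hU'

theorem Setting.unique_decomp {a d b c : G} (ha : a ∈ V) (hd : d ∈ V) (hb : b ∈ U) (hc : c ∈ U)
    (e : a * b = d * c) : a = d ∧ b = c := by
  have h1 : d⁻¹ * a = c * b⁻¹ := by
    rw [inv_mul_eq_iff_eq_mul, ← mul_assoc, ← e, mul_inv_cancel_right]
  have h2 : d⁻¹ * a = 1 := s.comp_inf hU (by rw [h1]; exact mul_mem hc (inv_mem hb))
    (mul_mem (inv_mem hd) ha)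
  rw [inv_mul_eq_one] at h2
  exact ⟨h2.symm, mul_left_cancel (h2.symm ▸ e)⟩

theorem Setting.partner {p : G} (hp : p ∈ pp V Q) (hpE : p ∉ ee V Q U) :
    ∃ x ∈ pp U Q', x ∉ ee U Q' V ∧ (∀ u ∈ U, cm x (cm p u) = u) ∧
      ∀ v ∈ V, cm p (cm x v) = v := by
  have hc := s.comp_cj hU (s.le_normalizer_pp hp)
  obtain ⟨u₁, hu₁, hu₁1⟩ := s.comp_ne_one hU
  have hne : cj p U ≠ U := fun e => s.cm_ne_one hU hp hpE hu₁ hu₁1
    (s.comp_inf hU (U.mul_mem (e ▸ conj_mem_cj hu₁) (U.inv_mem hu₁))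
      (s.commutator_mem hp (s.comp_le_pp hU hu₁)).1)
  obtain ⟨y, hy⟩ := hU'.1
  obtain ⟨z, hz⟩ := hU.1
  obtain ⟨w, hw⟩ := hc.1
  have hconj : ∃ x, cj p U = cj x U := ⟨p, rfl⟩
  obtain ⟨x, hx, he⟩ := s'.conj_in_sup hU' hconj ((s.cj_le_sup hU hp).trans (sup_comm V U).le) hne
  have key : ∀ u ∈ U, cm x (cm p u) = u := by
    intro u hu
    have hmem : p * u * p⁻¹ ∈ cj x V := he ▸ conj_mem_cj hu
    rw [mem_cj] at hmem
    set v := x⁻¹ * (p * u * p⁻¹) * x with hv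
    have hxv : cm x v ∈ U := (s'.commutator_mem hx (s'.comp_le_pp hU' hmem)).1
    have e1 : cm p u * u = v * cm x v := by
      rw [← s.pp_comm (s.comp_le_pp hU hxv) hmem, cm_mul, cm_mul, hv]; group
    obtain ⟨h1, h2⟩ := s.unique_decomp s' hU hU' (s.commutator_mem hp (s.comp_le_pp hU hu)).1
      hmem hu hxv e1
    rw [h1, ← h2]
  refine ⟨x, hx, fun hE => hu₁1 ?_, key, fun v hv => ?_⟩
  · rw [← key u₁ hu₁, cm_eq_one]
    exact ((ee_def.1 hE).2 _ (s.commutator_mem hp (s.comp_le_pp hU hu₁)).1).symm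
  · obtain ⟨⟨u, hu⟩, e⟩ := (s.cm_bijective hU hp hpE).2 ⟨v, hv⟩
    have e' : cm p u = v := congrArg Subtype.val e
    rw [← e', key u hu]

theorem Setting.swap_mem {p x : G} (hp : p ∈ pp V Q) (hx : x ∈ pp U Q')
    (h1 : ∀ u ∈ U, cm x (cm p u) = u) (h2 : ∀ v ∈ V, cm p (cm x v) = v) :
    (∀ v ∈ V, (p * x * p) * v * (p * x * p)⁻¹ = cm x v) ∧
      ∀ u ∈ U, (p * x * p) * u * (p * x * p)⁻¹ = cm p u := by
  refine ⟨fun v hv => ?_, fun u hu => ?_⟩
  · have hxv : cm x v ∈ U := (s'.commutator_mem hx (s'.comp_le_pp hU' hv)).1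
    calc (p * x * p) * v * (p * x * p)⁻¹ = p * (x * (p * v * p⁻¹) * x⁻¹) * p⁻¹ := by group
      _ = p * (cm x v * v) * p⁻¹ := by rw [s.conj_eq hp hv, cm_mul]
      _ = (cm p (cm x v) * cm x v) * (p * v * p⁻¹) := by rw [cm_mul p (cm x v)]; group
      _ = v * (cm x v * v) := by rw [h2 v hv, s.conj_eq hp hv]; group
      _ = v * (v * cm x v) := by rw [s.pp_comm (s.comp_le_pp hU hxv) hv]
      _ = cm x v := by rw [← mul_assoc, s.sq v hv, one_mul]
  · have hpu : cm p u ∈ V := (s.commutator_mem hp (s.comp_le_pp hU hu)).1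
    calc (p * x * p) * u * (p * x * p)⁻¹ = p * (x * (p * u * p⁻¹) * x⁻¹) * p⁻¹ := by group
      _ = p * ((x * cm p u * x⁻¹) * (x * u * x⁻¹)) * p⁻¹ := by rw [← cm_mul p u]; group
      _ = p * (u * cm p u * u) * p⁻¹ := by rw [← cm_mul x (cm p u), h1 u hu, s'.conj_eq hx hu]
      _ = p * cm p u * p⁻¹ := by
          rw [mul_assoc u, ← s.pp_comm (s.comp_le_pp hU hu) hpu, ← mul_assoc u,
            (s.conj_comm hU.1).2 u hu, one_mul]
      _ = cm p u := s.conj_eq hp hpu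

end Partner

theorem act_add (z w : AddMonoid.End (Additive ↥V)) (v : ↥V) :
    act (z + w) v = act z v * act w v := rfl

theorem act_mul (z w : AddMonoid.End (Additive ↥V)) (v : ↥V) :
    act (z * w) v = act z (act w v) := rfl

theorem act_map (z : AddMonoid.End (Additive ↥V)) (v w : ↥V) :
    act z (v * w) = act z v * act z w := by
  simp [act, ofMul_mul, map_add, toMul_add]

theorem act_one_apply (v : ↥V) : act (1 : AddMonoid.End (Additive ↥V)) v = v := rfl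

theorem act_zero_apply (v : ↥V) : act (0 : AddMonoid.End (Additive ↥V)) v = 1 := rfl

theorem act_ext {z w : AddMonoid.End (Additive ↥V)} (h : ∀ v, act z v = act w v) : z = w :=
  AddMonoidHom.ext fun a => h (Additive.toMul a)

/-- The endomorphism `v ↦ [p, [x, v]]` lies in the spread set, for fixed `x`. -/
def InSpread (V Q : Subgroup G) (x : G) (z : AddMonoid.End (Additive ↥V)) : Prop :=
  ∃ p ∈ pp V Q, ∀ v : ↥V, (act z v : G) = cm p (cm x (v : G))

include s s' hU hU'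

theorem Setting.cm_x_map {x : G} (hx : x ∈ pp U Q') {a b : G} (ha : a ∈ V) (hb : b ∈ V) :
    cm x (a * b) = cm x a * cm x b := s'.cm_right hx (s'.comp_le_pp hU' ha) (s'.comp_le_pp hU' hb)

theorem Setting.exists_inSpread {x p : G} (hx : x ∈ pp U Q') (hp : p ∈ pp V Q) :
    ∃ z : AddMonoid.End (Additive ↥V), ∀ v : ↥V, (act z v : G) = cm p (cm x (v : G)) := by
  have hmem : ∀ v ∈ V, cm x v ∈ U := fun v hv => (s'.commutator_mem hx (s'.comp_le_pp hU' hv)).1
  let f : ↥V →* ↥V := MonoidHom.mk'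
    (fun v => ⟨cm p (cm x (v : G)), (s.commutator_mem hp (s.comp_le_pp hU (hmem v v.2))).1⟩)
    fun v w => Subtype.ext (by
      show cm p (cm x ((v : G) * w)) = _
      rw [s.cm_x_map s' hU hU' hx v.2 w.2,
        s.cm_right hp (s.comp_le_pp hU (hmem v v.2)) (s.comp_le_pp hU (hmem w w.2))]
      rfl)
  exact ⟨MonoidHom.toAdditive f, fun v => rfl⟩

/-- The spread set. -/
def Setting.spread (s : Setting V Q) (s' : Setting U Q') (hU : IsComp V Q U)
    (hU' : IsComp U Q' V) (x : G) (hx : x ∈ pp U Q') : AddSubgroup (AddMonoid.End (Additive ↥V)) where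
  carrier := {z | InSpread V Q x z}
  zero_mem' := ⟨1, one_mem _, fun v => by simp [act_zero_apply, cm]⟩
  add_mem' := by
    rintro z w ⟨p, hp, hz⟩ ⟨q, hq, hw⟩
    refine ⟨p * q, mul_mem hp hq, fun v => ?_⟩
    rw [act_add, Subgroup.coe_mul, hz, hw,
      s.cm_left hp hq (s.comp_le_pp hU (s'.commutator_mem hx (s'.comp_le_pp hU' v.2)).1)]
  neg_mem' := by
    rintro z ⟨p, hp, hz⟩
    refine ⟨p, hp, fun v => ?_⟩
    have : act (-z) v = (act z v)⁻¹ := rfl
    rw [this, Subgroup.coe_inv, s.inv_eq (act z v).2, hz]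

theorem Setting.spreadSet {x p : G} (hp : p ∈ pp V Q) (hx : x ∈ pp U Q')
    (h2 : ∀ v ∈ V, cm p (cm x v) = v) :
    SpreadSet (s.spread s' hU hU' x hx) := by
  classical
  set S := s.spread s' hU hU' x hx
  have hmem : ∀ v ∈ V, cm x v ∈ U := fun v hv => (s'.commutator_mem hx (s'.comp_le_pp hU' hv)).1
  have two : ∀ a : Additive ↥V, a + a = 0 := fun a =>
    congrArg Additive.ofMul (Subtype.ext (s.sq _ (Additive.toMul a).2) :
      Additive.toMul a * Additive.toMul a = 1)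
  have one : (1 : AddMonoid.End (Additive ↥V)) ∈ S := ⟨p, hp, fun v => (h2 v v.2).symm⟩
  have self : ∀ z : AddMonoid.End (Additive ↥V), z + z = 0 := fun z =>
    AddMonoidHom.ext fun a => two (z a)
  have inv : ∀ t ∈ S, t ≠ 0 → ∃ w ∈ S, t * w = 1 := by
    intro t ht ht0
    obtain ⟨q, hq, hqz⟩ : InSpread V Q x (1 + t) := S.add_mem one ht
    set z := 1 + t with hz
    have hxW : cj x (V ⊔ U) = V ⊔ U := mem_normalizer_iff_cj.1 (by
      rw [sup_comm]; exact s'.pp_normalizes_sup hU' hx)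
    have hle : cj x (cj q U) ≤ V ⊔ U := hxW ▸ cj_le_cj (s.cj_le_sup hU hq)
    have hconj : ∃ y, cj x (cj q U) = cj y V := by
      obtain ⟨y, hy⟩ := hU.1
      exact ⟨x * (q * y), by rw [cj_mul, cj_mul, hy]⟩
    have himg : ∀ u ∈ U, cm q u * (cm x (cm q u) * u) ∈ cj x (cj q U) := by
      intro u hu
      have hv := (s.commutator_mem hq (s.comp_le_pp hU hu)).1
      have : x * (q * u * q⁻¹) * x⁻¹ ∈ cj x (cj q U) := conj_mem_cj (conj_mem_cj hu)
      rw [← cm_mul q u] at this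
      have e : x * (cm q u * u) * x⁻¹ = cm q u * (cm x (cm q u) * u) := by
        calc x * (cm q u * u) * x⁻¹ = (x * cm q u * x⁻¹) * (x * u * x⁻¹) := by group
          _ = cm x (cm q u) * cm q u * u := by rw [← cm_mul x (cm q u), s'.conj_eq hx hu]
          _ = _ := by rw [s.pp_comm (s.comp_le_pp hU (hmem _ hv)) hv, mul_assoc]
      rwa [e] at this
    have hneV : cj x (cj q U) ≠ V := by
      intro e
      apply ht0
      have hz1 : z = 1 := act_ext fun v => Subtype.ext (by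
        have hv' := hmem v v.2
        have hm := himg _ hv'
        rw [e] at hm
        have hqv := (s.commutator_mem hq (s.comp_le_pp hU hv')).1
        have h3 : cm x (cm q (cm x (v : G))) * cm x (v : G) ∈ V := by
          have := V.mul_mem (V.inv_mem hqv) hm
          rwa [inv_mul_cancel_left] at this
        have h4 := s.comp_inf hU (mul_mem (hmem _ hqv) hv') h3
        rw [act_one_apply, hqz, ← h2 _ hqv, mul_eq_one_iff_eq_inv.1 h4,
          inv_eq_of_mul_eq_one_right ((s.conj_comm hU.1).2 _ hv'), h2 _ v.2])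
      calc t = 1 + (1 + t) := by rw [← add_assoc, self, zero_add]
        _ = 0 := by rw [← hz, hz1, self]
    obtain ⟨r, hr, hre⟩ := s.conj_in_sup hU hconj hle hneV
    obtain ⟨w, hw⟩ := s.exists_inSpread s' hU hU' hx hr
    have hwS : w ∈ S := ⟨r, hr, hw⟩
    have hwz : w * (1 + z) = z := act_ext fun v => Subtype.ext (by
      rw [act_mul, hw, act_add, act_one_apply, Subgroup.coe_mul,
        s.cm_x_map s' hU hU' hx v.2 (act z v).2, hqz]
      have hv' := hmem v v.2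
      have hqv := (s.commutator_mem hq (s.comp_le_pp hU hv')).1
      have hm := himg _ hv'
      rw [hre, mem_cj] at hm
      set u' := r⁻¹ * (cm q (cm x (v : G)) * (cm x (cm q (cm x (v : G))) * cm x (v : G))) * r with hu'
      have e1 : cm q (cm x (v : G)) * (cm x (cm q (cm x (v : G))) * cm x (v : G)) = cm r u' * u' := by
        rw [cm_mul, hu']; group
      obtain ⟨e2, e3⟩ := s.unique_decomp s' hU hU' hqv
        (s.commutator_mem hr (s.comp_le_pp hU hm)).1 (mul_mem (hmem _ hqv) hv') hm e1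
      rw [(s.conj_comm hU.1).1 _ hv' _ (hmem _ hqv), e3]
      exact e2.symm)
    refine ⟨1 + w, S.add_mem one hwS, mul_eq_one_comm.1 ?_⟩
    have ht' : t = 1 + z := by rw [hz, ← add_assoc, self, zero_add]
    rw [ht', add_mul, one_mul, hwz, add_assoc, self, add_zero]
  refine ⟨two, one, inv, ?_⟩
  obtain ⟨⟨v₀, hv₀⟩, hv₀1⟩ := Subgroup.ne_bot_iff_exists_ne_one.1 s.ne_bot
  have hu₁ : cm x v₀ ≠ 1 := fun e => hv₀1 (Subtype.ext (by
    show v₀ = 1
    rw [← h2 v₀ hv₀, e]; simp [cm]))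
  refine Nat.card_eq_of_bijective (fun z : S => z.1 (Additive.ofMul ⟨v₀, hv₀⟩)) ⟨?_, ?_⟩
  · intro a b e
    by_contra hne
    have hd : a.1 - b.1 ≠ 0 := fun h => hne (Subtype.ext (sub_eq_zero.1 h))
    obtain ⟨w, -, hw⟩ := inv _ (S.sub_mem a.2 b.2) hd
    have h3 : w * (a.1 - b.1) = 1 := mul_eq_one_comm.1 hw
    have h4 := DFunLike.congr_fun h3 (Additive.ofMul (⟨v₀, hv₀⟩ : ↥V))
    have h5 : (a.1 - b.1) (Additive.ofMul ⟨v₀, hv₀⟩) = 0 := by
      show a.1 _ - b.1 _ = 0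
      rw [sub_eq_zero]; exact e
    have h6 : w ((a.1 - b.1) (Additive.ofMul ⟨v₀, hv₀⟩)) = Additive.ofMul (⟨v₀, hv₀⟩ : ↥V) := h4
    rw [h5, map_zero] at h6
    exact hv₀1 (congrArg Additive.toMul h6.symm)
  · intro a
    obtain ⟨q, hq, hqe⟩ := s.exists_cm hU (hmem v₀ hv₀) hu₁ (Additive.toMul a).2
    obtain ⟨z, hz⟩ := s.exists_inSpread s' hU hU' hx hq
    exact ⟨⟨z, q, hq, hz⟩, congrArg Additive.ofMul (Subtype.ext ((hz _).trans hqe) :
      act z ⟨v₀, hv₀⟩ = Additive.toMul a)⟩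

theorem Setting.exists_pair :
    ∃ p x : G, p ∈ pp V Q ∧ x ∈ pp U Q' ∧ (∀ u ∈ U, cm x (cm p u) = u) ∧
      ∀ v ∈ V, cm p (cm x v) = v := by
  obtain ⟨u, hu, hu1⟩ := s.comp_ne_one hU
  obtain ⟨⟨v, hv⟩, hv1⟩ := Subgroup.ne_bot_iff_exists_ne_one.1 s.ne_bot
  obtain ⟨p, hp, e⟩ := s.exists_cm hU hu hu1 hv
  have hpE : p ∉ ee V Q U := fun h => hv1 (Subtype.ext (by
    show v = 1
    rw [← e, cm_eq_one, (ee_def.1 h).2 u hu]))
  obtain ⟨x, hx, -, h1, h2⟩ := s.partner s' hU hU' hp hpE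
  exact ⟨p, x, hp, hx, h1, h2⟩

/-- The centre of `Q` meets `V`, and the normalizer of `V` is transitive on `V`; hence `Q` centralizes `V`. -/
theorem Setting.pp_eq : pp V Q = Q := by
  refine le_antisymm inf_le_left (le_inf le_rfl fun q hq => Subgroup.mem_centralizer_iff.2 ?_)
  obtain ⟨p, x, hp, hx, h1, h2⟩ := s.exists_pair s' hU hU'
  have : Fact (Nat.Prime 2) := ⟨Nat.prime_two⟩
  have hnil : Group.IsNilpotent Q := s.Q_two.isNilpotent
  have hn : (V.subgroupOf Q).Normal := ⟨fun v hv y => by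
    show (y : G) * v * (y : G)⁻¹ ∈ V
    exact s.V_normal (s.Q_le y.2) hv⟩
  have hne : V.subgroupOf Q ≠ ⊥ := by
    rw [Ne, Subgroup.subgroupOf_eq_bot, disjoint_iff, inf_eq_left.2 s.le_Q]
    exact s.ne_bot
  obtain ⟨⟨⟨v₀, hv₀Q⟩, hv₀, hv₀c⟩, hv₀1⟩ := Subgroup.ne_bot_iff_exists_ne_one.1
    (Cfsg.Lib.Coprime.inf_center_ne_bot (V.subgroupOf Q) hne)
  have hv₀' : v₀ ∈ V := hv₀
  have hv₀ne : v₀ ≠ 1 := fun e => hv₀1 (Subtype.ext (Subtype.ext e))
  intro v hv
  by_cases hv1 : v = 1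
  · simp [hv1]
  have hu1 : cm x v₀ ≠ 1 := fun e => hv₀ne (by rw [← h2 v₀ hv₀', e]; simp [cm])
  have huU := (s'.commutator_mem hx (s'.comp_le_pp hU' hv₀')).1
  obtain ⟨r, hr, hre⟩ := s.exists_cm hU huU hu1 hv
  have hrE : r ∉ ee V Q U := fun h => hv1 (by
    rw [← hre, cm_eq_one, (ee_def.1 h).2 _ huU])
  obtain ⟨y, hy, -, h3, h4⟩ := s.partner s' hU hU' hr hrE
  obtain ⟨-, hrU⟩ := s.swap_mem s' hU hU' hr hy h3 h4
  obtain ⟨hpV, -⟩ := s.swap_mem s' hU hU' hp hx h1 h2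
  set τ := (r * y * r) * (p * x * p) with hτ
  have hτv : ∀ w ∈ V, τ * w * τ⁻¹ = cm r (cm x w) := by
    intro w hw
    rw [← hrU _ (s'.commutator_mem hx (s'.comp_le_pp hU' hw)).1, ← hpV w hw, hτ]
    group
  have hτM : τ ∈ Subgroup.normalizer (V : Set G) := by
    rw [mem_normalizer_iff_cj]
    refine Subgroup.eq_of_le_of_card_ge ?_ (card_cj _ _).ge
    rintro _ ⟨w, hw, rfl⟩
    show τ * w * τ⁻¹ ∈ V
    rw [hτv w hw]
    exact (s.commutator_mem hr
      (s.comp_le_pp hU (s'.commutator_mem hx (s'.comp_le_pp hU' hw)).1)).1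
  have hcomm : (τ⁻¹ * q * τ⁻¹⁻¹) * v₀ = v₀ * (τ⁻¹ * q * τ⁻¹⁻¹) :=
    congrArg Subtype.val (Subgroup.mem_center_iff.1 hv₀c
      ⟨_, s.Q_norm _ (inv_mem hτM) q hq⟩)
  rw [← hre, ← hτv v₀ hv₀']
  calc τ * v₀ * τ⁻¹ * q = τ * (v₀ * (τ⁻¹ * q * τ⁻¹⁻¹)) * τ⁻¹ := by group
    _ = _ := by rw [← hcomm]; group

end Cfsg.Lib.TISpecial
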