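import Mathlib

/-!
# Trace dual bases of finite fields of characteristic two

Stated without scalars: sums over a pair of dual families can be moved across biadditive maps.
-/

set_option autoImplicit false
set_option linter.unusedSectionVars false

namespace Cfsg.Lib.TISpecial

variable {K : Type*} [Field K] [Finite K] [Algebra (ZMod 2) K]

/-- The trace to the prime field, with values in `K`. -/
noncomputable def tr (k : K) : K := algebraMap (ZMod 2) K (Algebra.trace (ZMod 2) K k)

theorem tr_zero_or_one (k : K) : tr k = 0 ∨ tr k = 1 := by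
  rcases (by decide : ∀ a : ZMod 2, a = 0 ∨ a = 1) (Algebra.trace (ZMod 2) K k) with h | h <;>
    simp [tr, h]

theorem tr_map (σ : K ≃ₐ[ZMod 2] K) (k : K) : tr (σ k) = tr k := by
  rw [tr, tr, ← Algebra.trace_eq_of_algEquiv σ k]

theorem tr_eq_sum (k : K) : tr k = ∑ σ : K ≃ₐ[ZMod 2] K, σ k := by
  rw [tr, trace_eq_sum_automorphisms]

/-- A pair of families dual for the trace form. -/
structure DualPair {ι : Type*} [Fintype ι] (e f : ι → K) : Prop where
  left : ∀ k, ∑ i, tr (k * f i) * e i = k
  right : ∀ k, ∑ i, tr (k * e i) * f i = k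

theorem exists_dualPair : ∃ (n : ℕ) (e f : Fin n → K), DualPair e f := by
  classical
  let B := Algebra.traceForm (ZMod 2) K
  have hB : B.Nondegenerate := traceForm_nondegenerate (ZMod 2) K
  let b := Module.finBasis (ZMod 2) K
  let d := B.dualBasis hB b
  refine ⟨_, fun i => b i, fun i => d i, ⟨fun k => ?_, fun k => ?_⟩⟩
  · have hsym : B.IsSymm := Algebra.traceForm_isSymm (ZMod 2)
    calc ∑ i, tr (k * d i) * b i = ∑ i, b.repr k i • b i := by
          refine Finset.sum_congr rfl fun i _ => ?_
          rw [Algebra.smul_def, tr]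
          congr 2
          have : Algebra.trace (ZMod 2) K (k * d i) = B k (d i) := rfl
          rw [this]
          conv_lhs => rw [← b.sum_repr k]
          rw [map_sum, LinearMap.sum_apply]
          simp only [map_smul, LinearMap.smul_apply, smul_eq_mul]
          rw [Finset.sum_eq_single i]
          · rw [LinearMap.BilinForm.apply_dualBasis_right hB hsym b]; simp
          · intro j _ hj; rw [LinearMap.BilinForm.apply_dualBasis_right hB hsym b]; simp [hj]
          · simp
      _ = k := b.sum_repr k
  · calc ∑ i, tr (k * b i) * d i = ∑ i, d.repr k i • d i := by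
          refine Finset.sum_congr rfl fun i _ => ?_
          rw [Algebra.smul_def, tr]
          congr 2
          rw [LinearMap.BilinForm.dualBasis_repr_apply]
          rfl
      _ = k := d.sum_repr k

variable {ι : Type*} [Fintype ι] {e f : ι → K} {M : Type*} [AddCommGroup M]

theorem double_sum (B : K →+ K →+ M) (c : ι → ι → K) (hc : ∀ i j, c i j = 0 ∨ c i j = 1)
    (u w : ι → K) :
    ∑ i, B (∑ j, c i j * u j) (w i) = ∑ j, B (u j) (∑ i, c i j * w i) := by
  simp only [map_sum, AddMonoidHom.finsetSum_apply]
  rw [Finset.sum_comm]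
  refine Finset.sum_congr rfl fun j _ => Finset.sum_congr rfl fun i _ => ?_
  rcases hc i j with h | h <;> simp [h]

theorem DualPair.transfer (D : DualPair e f) (B : K →+ K →+ M) (k : K) :
    ∑ i, B (k * e i) (f i) = ∑ i, B (e i) (k * f i) := by
  calc ∑ i, B (k * e i) (f i) = ∑ i, B (∑ j, tr (k * e i * f j) * e j) (f i) := by
        simp_rw [D.left]
    _ = ∑ j, B (e j) (∑ i, tr (k * e i * f j) * f i) :=
        double_sum B _ (fun i j => tr_zero_or_one _) _ _
    _ = ∑ j, B (e j) (k * f j) := by
        refine Finset.sum_congr rfl fun j _ => ?_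
        congr 1
        conv_rhs => rw [← D.right (k * f j)]
        exact Finset.sum_congr rfl fun i _ => by congr 2; ring

theorem DualPair.swap (D : DualPair e f) (B : K →+ K →+ M) :
    ∑ i, B (e i) (f i) = ∑ i, B (f i) (e i) := by
  calc ∑ i, B (e i) (f i) = ∑ i, B (∑ j, tr (e i * e j) * f j) (f i) := by simp_rw [D.right]
    _ = ∑ j, B (f j) (∑ i, tr (e i * e j) * f i) :=
        double_sum B _ (fun i j => tr_zero_or_one _) _ _
    _ = ∑ j, B (f j) (e j) := by
        refine Finset.sum_congr rfl fun j _ => ?_
        congr 1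
        conv_rhs => rw [← D.right (e j)]
        exact Finset.sum_congr rfl fun i _ => by congr 2; ring

theorem DualPair.galois (D : DualPair e f) (B : K →+ K →+ M) (σ : K ≃ₐ[ZMod 2] K) :
    ∑ i, B (σ (e i)) (σ (f i)) = ∑ i, B (e i) (f i) := by
  have key : ∀ c : K, c = 0 ∨ c = 1 → ∀ u, σ (c * u) = c * σ u := by
    rintro c (h | h) u <;> simp [h]
  calc ∑ i, B (σ (e i)) (σ (f i))
      = ∑ i, B (∑ j, tr (σ (e i) * f j) * e j) (σ (f i)) := by simp_rw [D.left]
    _ = ∑ j, B (e j) (∑ i, tr (σ (e i) * f j) * σ (f i)) :=
        double_sum B _ (fun i j => tr_zero_or_one _) _ _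
    _ = ∑ j, B (e j) (f j) := by
        refine Finset.sum_congr rfl fun j _ => ?_
        congr 1
        have h := congrArg σ (D.right (σ.symm (f j)))
        rw [map_sum, σ.apply_symm_apply] at h
        refine Eq.trans (Finset.sum_congr rfl fun i _ => ?_) h
        rw [key _ (tr_zero_or_one _), ← tr_map σ (σ.symm (f j) * e i), map_mul,
          σ.apply_symm_apply, mul_comm (f j)]

theorem DualPair.sum_mul (D : DualPair e f) : ∑ i, tr (e i) * f i = 1 := by
  simpa using D.right 1

end Cfsg.Lib.TISpecial
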