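import Cfsg.Agent.TISpecial.TraceDual

/-!
# Twisted components of a ring over an embedded finite field
-/

set_option autoImplicit false
set_option linter.unusedSectionVars false

namespace Cfsg.Lib.TISpecial

variable {K : Type*} [Field K] [Finite K] [Algebra (ZMod 2) K] {R : Type*} [Ring R]

/-- `z` is twisted by `ρ` with respect to `j`. -/
def Tw (j : K →+* R) (ρ : K ≃ₐ[ZMod 2] K) (z : R) : Prop := ∀ k, z * j k = j (ρ k) * z

variable {j : K →+* R} {ρ σ τ : K ≃ₐ[ZMod 2] K} {z w : R}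

theorem Tw.mul (hz : Tw j ρ z) (hw : Tw j σ w) : Tw j (ρ * σ) (z * w) := fun k => by
  rw [mul_assoc, hw, ← mul_assoc, hz, mul_assoc]; rfl

theorem Tw.one : Tw j 1 (1 : R) := fun k => by simp

theorem Tw.pow (hz : Tw j ρ z) : ∀ n : ℕ, Tw j (ρ ^ n) (z ^ n)
  | 0 => by simpa using Tw.one
  | n + 1 => by rw [pow_succ, pow_succ]; exact (Tw.pow hz n).mul hz

theorem Tw.coe_mul (hz : Tw j ρ z) (c : K) : Tw j ρ (j c * z) := fun k => by
  rw [mul_assoc, hz, ← mul_assoc, ← map_mul, mul_comm c, map_mul, mul_assoc]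

theorem Tw.add (hz : Tw j ρ z) (hw : Tw j ρ w) : Tw j ρ (z + w) := fun k => by
  rw [add_mul, mul_add, hz, hw]

theorem tw_coe (c : K) : Tw j 1 (j c) := fun k => by
  rw [← map_mul, ← map_mul, mul_comm]; rfl

theorem eq_zero_of_coe_mul {c : K} (hc : c ≠ 0) (h : j c * z = 0) : z = 0 := by
  have := congrArg (j c⁻¹ * ·) h
  simpa [← mul_assoc, ← map_mul, hc] using this

theorem Tw.eq_zero (hz : Tw j ρ z) (hz' : Tw j σ z) (h : ρ ≠ σ) : z = 0 := by
  obtain ⟨k, hk⟩ : ∃ k, ρ k ≠ σ k := by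
    by_contra! hall; exact h (AlgEquiv.ext hall)
  refine eq_zero_of_coe_mul (sub_ne_zero.mpr hk) ?_ (j := j)
  rw [map_sub, sub_mul, ← hz, ← hz', sub_self]

variable {ι : Type*} [Fintype ι] {e f : ι → K}

/-- The biadditive map `p, q ↦ j p * z * j q`. -/
def sandwich (j : K →+* R) (z : R) : K →+ K →+ R :=
  AddMonoidHom.mk' (fun p => AddMonoidHom.mk' (fun q => j p * z * j q)
      fun a b => by rw [map_add, mul_add])
    fun a b => by ext q; simp [add_mul]

theorem sandwich_apply (p q : K) : sandwich j z p q = j p * z * j q := rfl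

/-- Left twist of a biadditive map. -/
def leftTwist (ρ : K ≃ₐ[ZMod 2] K) (B : K →+ K →+ R) : K →+ K →+ R :=
  B.comp (ρ : K →+* K).toAddMonoidHom

theorem leftTwist_apply (B : K →+ K →+ R) (p q : K) : leftTwist ρ B p q = B (ρ p) q := rfl

/-- Projection to the component twisted by `ρ`. -/
def proj (j : K →+* R) (e f : ι → K) (ρ : K ≃ₐ[ZMod 2] K) : R →+ R :=
  AddMonoidHom.mk' (fun z => ∑ i, j (ρ (e i)) * z * j (f i))
    fun a b => by simp only [mul_add, add_mul, Finset.sum_add_distrib]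

theorem proj_apply : proj j e f ρ z = ∑ i, j (ρ (e i)) * z * j (f i) := rfl

theorem proj_tw (D : DualPair e f) : Tw j ρ (proj j e f ρ z) := fun k => by
  have h := D.transfer (leftTwist ρ (sandwich j z)) k
  simp only [leftTwist_apply, sandwich_apply] at h
  rw [proj_apply, Finset.sum_mul, Finset.mul_sum]
  calc ∑ i, j (ρ (e i)) * z * j (f i) * j k
      = ∑ i, j (ρ (e i)) * z * j (k * f i) := by
        refine Finset.sum_congr rfl fun i _ => ?_
        rw [mul_assoc, ← map_mul, mul_comm (f i)]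
    _ = ∑ i, j (ρ (k * e i)) * z * j (f i) := h.symm
    _ = _ := by
        refine Finset.sum_congr rfl fun i _ => ?_
        rw [map_mul, map_mul]; simp only [mul_assoc]

theorem sum_proj (D : DualPair e f) : ∑ τ : K ≃ₐ[ZMod 2] K, proj j e f τ z = z := by
  simp only [proj_apply]
  rw [Finset.sum_comm]
  calc ∑ i, ∑ τ : K ≃ₐ[ZMod 2] K, j (τ (e i)) * z * j (f i)
      = ∑ i, z * (j (tr (e i)) * j (f i)) := by
        refine Finset.sum_congr rfl fun i _ => ?_
        rw [← Finset.sum_mul, ← Finset.sum_mul, ← map_sum, ← tr_eq_sum]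
        rcases tr_zero_or_one (e i) with h | h <;> simp [h]
    _ = z := by
        rw [← Finset.mul_sum]; simp_rw [← map_mul]; rw [← map_sum, D.sum_mul, map_one, mul_one]

theorem proj_of_ne (D : DualPair e f) (hz : Tw j σ z) (h : ρ ≠ σ) : proj j e f ρ z = 0 := by
  refine (proj_tw D).eq_zero ?_ h
  have : proj j e f ρ z = j (∑ i, ρ (e i) * σ (f i)) * z := by
    rw [proj_apply, map_sum, Finset.sum_mul]
    refine Finset.sum_congr rfl fun i _ => ?_
    rw [mul_assoc, hz, ← mul_assoc, ← map_mul]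
  rw [this]; exact hz.coe_mul _

theorem proj_self (D : DualPair e f) (hz : Tw j σ z) : proj j e f σ z = z := by
  have h := sum_proj (j := j) (z := z) D
  rw [Finset.sum_eq_single σ] at h
  · exact h
  · intro b _ hb; exact proj_of_ne D hz hb
  · simp

theorem proj_inv (D : DualPair e f) :
    proj j e f ρ⁻¹ z = ∑ i, j (f i) * z * j (ρ (e i)) := by
  have hg := D.galois (leftTwist ρ⁻¹ (sandwich j z)) ρ
  simp only [leftTwist_apply, sandwich_apply] at hg
  rw [proj_apply, ← hg]
  have h1 : ∀ u, ρ⁻¹ (ρ u) = u := fun u => ρ.symm_apply_apply u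
  simp_rw [h1]
  have := D.swap (AddMonoidHom.flip (leftTwist ρ (sandwich j z).flip))
  simp only [AddMonoidHom.flip_apply, leftTwist_apply, sandwich_apply] at this
  exact this

/-- A sum of a symmetrical family lies in an additive subgroup. -/
theorem sum_sum_mem {M : Type*} [AddCommGroup M] (S : AddSubgroup M) (h : ι → ι → M)
    (h1 : ∀ i, h i i ∈ S) (h2 : ∀ i k, h i k + h k i ∈ S) (s : Finset ι) :
    ∑ i ∈ s, ∑ k ∈ s, h i k ∈ S := by
  classical
  induction s using Finset.induction_on with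
  | empty => simp
  | insert a s ha ih =>
    rw [Finset.sum_insert ha, Finset.sum_insert ha]
    simp_rw [Finset.sum_insert ha, Finset.sum_add_distrib]
    have : h a a + ∑ k ∈ s, h a k + (∑ i ∈ s, h i a + ∑ i ∈ s, ∑ k ∈ s, h i k) =
        h a a + (∑ k ∈ s, (h a k + h k a) + ∑ i ∈ s, ∑ k ∈ s, h i k) := by
      rw [Finset.sum_add_distrib]; abel
    rw [this]
    exact S.add_mem (h1 a) (S.add_mem (S.sum_mem fun k _ => h2 a k) ih)

theorem proj_add_proj_inv_mem (D : DualPair e f) (S : AddSubgroup R)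
    (h2 : ∀ k l, j k * z * j l + j l * z * j k ∈ S) :
    proj j e f ρ z + proj j e f ρ⁻¹ z ∈ S := by
  rw [proj_inv D, proj_apply, ← Finset.sum_add_distrib]
  exact S.sum_mem fun i _ => h2 _ _

theorem proj_mem (D : DualPair e f) (S : AddSubgroup R) (hρ : ρ⁻¹ = ρ)
    (h1 : ∀ k, j k * z * j k ∈ S) (h2 : ∀ k l, j k * z * j l + j l * z * j k ∈ S) :
    proj j e f ρ z ∈ S := by
  have hinv : ∀ u, ρ (ρ u) = u := fun u => by
    conv_lhs => arg 1; rw [← hρ]
    exact ρ.symm_apply_apply u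
  set G : ι → ι → K := fun i k => tr (ρ (e i) * e k) with hG
  have hexp : ∀ i, ρ (e i) = ∑ k, G i k * f k := fun i => (D.right _).symm
  have hsym : ∀ i k, G k i = G i k := fun i k => by
    simp only [hG]
    rw [← tr_map ρ (ρ (e k) * e i), map_mul, hinv, mul_comm]
  have h := proj_inv (j := j) (z := z) (ρ := ρ) D
  rw [hρ] at h
  rw [h]
  have : ∑ i, j (f i) * z * j (ρ (e i)) =
      ∑ i, ∑ k, j (G i k) * (j (f i) * z * j (f k)) := by
    refine Finset.sum_congr rfl fun i _ => ?_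
    rw [hexp, map_sum, Finset.mul_sum]
    refine Finset.sum_congr rfl fun k _ => ?_
    rcases tr_zero_or_one (ρ (e i) * e k) with h | h <;> simp [hG, h]
  rw [this]
  refine sum_sum_mem S _ (fun i => ?_) (fun i k => ?_) _
  · rcases tr_zero_or_one (ρ (e i) * e i) with h | h <;> simp [hG, h, h1]
  · rw [hsym i k]
    rcases tr_zero_or_one (ρ (e i) * e k) with h | h <;> simp [hG, h, h2]

end Cfsg.Lib.TISpecial
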